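import Cfsg.Agent.Lib.AutPSL.Sylow
import Cfsg.Agent.Lib.RegGen.Three

/-!
# Subspace stabilisers in `GL_n` and the flag of a regular unipotent element
-/

set_option autoImplicit false

namespace CfsgLib.NilCover

open Matrix

variable {n : ℕ} {F : Type*} [Field F]

/-- The image of a subspace under an invertible matrix. -/
def act (g : GL (Fin n) F) (W : Submodule F (Fin n → F)) : Submodule F (Fin n → F) :=
  W.map ((g : Matrix (Fin n) (Fin n) F).mulVecLin)

theorem mem_act {g : GL (Fin n) F} {W : Submodule F (Fin n → F)} {x : Fin n → F} :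
    x ∈ act g W ↔ ∃ y ∈ W, (g : Matrix (Fin n) (Fin n) F) *ᵥ y = x := Submodule.mem_map

theorem act_one (W : Submodule F (Fin n → F)) : act (1 : GL (Fin n) F) W = W := by
  simp [act, Matrix.mulVecLin_one]

theorem act_mul (g h : GL (Fin n) F) (W : Submodule F (Fin n → F)) :
    act (g * h) W = act g (act h W) := by
  rw [act, act, act, Units.val_mul, Matrix.mulVecLin_mul, Submodule.map_comp]

theorem act_finrank (g : GL (Fin n) F) (W : Submodule F (Fin n → F)) :
    Module.finrank F (act g W) = Module.finrank F W := by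
  refine (LinearEquiv.finrank_eq (Submodule.equivMapOfInjective _ ?_ W)).symm
  intro x y hxy
  have := congrArg (fun z => ((g⁻¹ : GL (Fin n) F) : Matrix (Fin n) (Fin n) F) *ᵥ z) hxy
  simpa [Matrix.mulVecLin_apply, Matrix.mulVec_mulVec] using this

theorem act_eq_of_le {g : GL (Fin n) F} {W : Submodule F (Fin n → F)} (h : act g W ≤ W) :
    act g W = W := Submodule.eq_of_le_of_finrank_eq h (act_finrank g W)

/-- The stabiliser of a subspace. -/
def stab (W : Submodule F (Fin n → F)) : Subgroup (GL (Fin n) F) where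
  carrier := {g | act g W = W}
  one_mem' := act_one W
  mul_mem' {a b} ha hb := by
    show act (a * b) W = W
    rw [act_mul, show act b W = W from hb, show act a W = W from ha]
  inv_mem' {a} ha := by
    show act a⁻¹ W = W
    conv_lhs => rw [← show act a W = W from ha, ← act_mul, inv_mul_cancel, act_one]

theorem center_le_stab (W : Submodule F (Fin n → F)) :
    Subgroup.center (GL (Fin n) F) ≤ stab W := by
  intro z hz
  rw [GeneralLinearGroup.center_eq_range_scalar] at hz
  obtain ⟨a, rfl⟩ := hz
  refine act_eq_of_le ?_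
  intro x hx
  obtain ⟨y, hy, rfl⟩ := mem_act.mp hx
  rw [show ((GeneralLinearGroup.scalar (Fin n) a : GL (Fin n) F) : Matrix (Fin n) (Fin n) F) =
    Matrix.scalar (Fin n) (a : F) from rfl, Matrix.scalar_apply]
  have : Matrix.diagonal (fun _ : Fin n => (a : F)) *ᵥ y = (a : F) • y := by
    ext i; simp [Matrix.mulVec_diagonal]
  rw [this]
  exact W.smul_mem _ hy

/-- The standard subspaces. -/
def std (m : ℕ) : Submodule F (Fin n → F) where
  carrier := {x | ∀ i : Fin n, m ≤ i → x i = 0}
  add_mem' {a b} ha hb i hi := by simp [ha i hi, hb i hi]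
  zero_mem' _ _ := rfl
  smul_mem' c {a} ha i hi := by simp [ha i hi]

theorem mem_std {m : ℕ} {x : Fin n → F} : x ∈ std m ↔ ∀ i : Fin n, m ≤ i → x i = 0 := Iff.rfl

theorem single_mem_std {m : ℕ} (i : Fin n) :
    (Pi.single i (1 : F) : Fin n → F) ∈ std m ↔ (i : ℕ) < m := by
  constructor
  · intro h
    by_contra hn
    simpa using h i (not_lt.mp hn)
  · intro h k hk
    rw [Pi.single_apply, if_neg]
    intro e
    subst e
    omega

theorem finrank_std {m : ℕ} (hm : m ≤ n) : Module.finrank F (std (n := n) (F := F) m) = m := by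
  let e : (std (n := n) (F := F) m) ≃ₗ[F] (Fin m → F) :=
    { toFun := fun x i => (x : Fin n → F) (Fin.castLE hm i)
      map_add' := fun _ _ => rfl
      map_smul' := fun _ _ => rfl
      invFun := fun y => ⟨fun i => if h : (i : ℕ) < m then y ⟨i, h⟩ else 0,
        fun i hi => dif_neg (not_lt.mpr hi)⟩
      left_inv := fun x => Subtype.ext (funext fun i => by
        by_cases h : (i : ℕ) < m
        · simp [h]
        · simp [h, x.2 i (not_lt.mp h)])
      right_inv := fun y => funext fun i => by simp }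
  rw [e.finrank_eq, Module.finrank_fin_fun]

/-- Every subspace is a translate of a standard one. -/
theorem exists_act_std (W : Submodule F (Fin n → F)) :
    ∃ c : GL (Fin n) F, act c (std (Module.finrank F W)) = W := by
  set k := Module.finrank F W
  have hk : k ≤ n := (Submodule.finrank_le W).trans_eq (Module.finrank_fin_fun F)
  obtain ⟨C₁, h₁⟩ := Submodule.exists_isCompl (std (n := n) (F := F) k)
  obtain ⟨C₂, h₂⟩ := Submodule.exists_isCompl W
  have d1 := Submodule.finrank_add_eq_of_isCompl h₁
  have d2 := Submodule.finrank_add_eq_of_isCompl h₂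
  rw [finrank_std hk] at d1
  let e₁ : (std (n := n) (F := F) k) ≃ₗ[F] W := LinearEquiv.ofFinrankEq _ _ (finrank_std hk)
  let e₂ : C₁ ≃ₗ[F] C₂ := LinearEquiv.ofFinrankEq _ _ (by omega)
  let e : (Fin n → F) ≃ₗ[F] (Fin n → F) :=
    ((Submodule.prodEquivOfIsCompl _ _ h₁).symm.trans (e₁.prodCongr e₂)).trans
      (Submodule.prodEquivOfIsCompl _ _ h₂)
  let c : GL (Fin n) F :=
    ⟨LinearMap.toMatrix' e.toLinearMap, LinearMap.toMatrix' e.symm.toLinearMap,
      by rw [← LinearMap.toMatrix'_comp]; simp,
      by rw [← LinearMap.toMatrix'_comp]; simp⟩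
  refine ⟨c, Submodule.eq_of_le_of_finrank_eq ?_ (by rw [act_finrank, finrank_std hk])⟩
  intro x hx
  obtain ⟨y, hy, rfl⟩ := mem_act.mp hx
  show LinearMap.toMatrix' e.toLinearMap *ᵥ y ∈ W
  rw [LinearMap.toMatrix'_mulVec]
  have : (Submodule.prodEquivOfIsCompl _ _ h₁).symm y = (⟨y, hy⟩, 0) :=
    Submodule.prodEquivOfIsCompl_symm_apply_left (h := h₁) (x := (⟨y, hy⟩ : std (n := n) (F := F) k))
  simp [e, this]

variable [Fintype F] (p : ℕ) [hp : Fact p.Prime] [CharP F p]

include hp in
/-- A `p`-subgroup of `GL_n` is conjugate into the upper unitriangular group. -/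
theorem exists_conj_unitri (Q : Subgroup (GL (Fin n) F)) (hQ : IsPGroup p Q) :
    ∃ c : GL (Fin n) F, ∀ q ∈ Q, ∃ x ∈ (AutPSL.unitri : Subgroup (Matrix.SpecialLinearGroup (Fin n) F)),
      q = c * Matrix.SpecialLinearGroup.toGL x * c⁻¹ := by
  set U : Subgroup (GL (Fin n) F) :=
    (AutPSL.unitri : Subgroup (Matrix.SpecialLinearGroup (Fin n) F)).map Matrix.SpecialLinearGroup.toGL
  obtain ⟨P⟩ := (inferInstance : Nonempty (Sylow p (GL (Fin n) F)))
  have hU : Nat.card U = p ^ (Nat.card (GL (Fin n) F)).factorization p := by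
    rw [← P.card_eq_multiplicity, Classical.card_sylow_GL p n P,
      Subgroup.card_map_of_injective Classical.toGL_injective', AutPSL.card_unitri, Nat.card_eq_fintype_card]
  obtain ⟨P', hP'⟩ := hQ.exists_le_sylow
  obtain ⟨c, hc⟩ := MulAction.exists_smul_eq (GL (Fin n) F) (Sylow.ofCard U hU) P'
  refine ⟨c, fun q hq => ?_⟩
  have := hP' hq
  rw [← hc, Sylow.coe_subgroup_smul, Subgroup.mem_pointwise_smul_iff_inv_smul_mem] at this
  obtain ⟨x, hx, hxe⟩ := this
  refine ⟨x, hx, ?_⟩
  rw [hxe]
  simp [MulAut.conj_apply, mul_assoc]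

theorem unitri_pow_zero {x : Matrix.SpecialLinearGroup (Fin n) F} (hx : x ∈ AutPSL.unitri) (k : ℕ)
    (i j : Fin n) (h : (j : ℕ) < i + k) :
    (((x : Matrix (Fin n) (Fin n) F) - 1) ^ k) i j = 0 := by
  induction k generalizing j with
  | zero =>
    rw [pow_zero, Matrix.one_apply, if_neg]
    intro e
    subst e
    omega
  | succ k ih =>
    rw [pow_succ, Matrix.mul_apply]
    refine Finset.sum_eq_zero fun b _ => ?_
    by_cases hb : (b : ℕ) < i + k
    · rw [ih b hb, zero_mul]
    · have hjb : j ≤ b := by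
        rw [Fin.le_def]; omega
      rw [Matrix.sub_apply, hx b j hjb, Matrix.one_apply, sub_self, mul_zero]

/-- A regular unipotent element inside a conjugate of the unitriangular group has the flag of that conjugate. -/
theorem flag_of_mem (g c : GL (Fin n) F) (x : Matrix.SpecialLinearGroup (Fin n) F) (hx : x ∈ AutPSL.unitri)
    (h : g * Matrix.SpecialLinearGroup.toGL (RegGen.regU F n) * g⁻¹ =
      c * Matrix.SpecialLinearGroup.toGL x * c⁻¹) (m : ℕ) (hm : m ≤ n) :
    act g (std m) = act c (std m) := by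
  set a := c⁻¹ * g with ha
  have e : (a : Matrix (Fin n) (Fin n) F) * RegGen.regU F n = (x : Matrix (Fin n) (Fin n) F) * a := by
    have : a * Matrix.SpecialLinearGroup.toGL (RegGen.regU F n) = Matrix.SpecialLinearGroup.toGL x * a := by
      have := congrArg (fun z => c⁻¹ * z * g) h
      simpa [ha, mul_assoc] using this
    simpa using congrArg (fun z : GL (Fin n) F => (z : Matrix (Fin n) (Fin n) F)) this
  have e1 : (a : Matrix (Fin n) (Fin n) F) * RegGen.supDiag F n = ((x : Matrix (Fin n) (Fin n) F) - 1) * a := by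
    rw [← RegGen.regU_sub_one, Matrix.mul_sub, e, Matrix.mul_one, Matrix.sub_mul, Matrix.one_mul]
  have hk : ∀ k : ℕ, (a : Matrix (Fin n) (Fin n) F) * RegGen.supDiag F n ^ k =
      ((x : Matrix (Fin n) (Fin n) F) - 1) ^ k * a := by
    intro k
    exact (SemiconjBy.pow_right e1 k).eq
  suffices act a (std m) = std m by
    rw [show g = c * a by rw [ha, mul_inv_cancel_left], act_mul, this]
  refine act_eq_of_le ?_
  intro v hv
  obtain ⟨y, hy, rfl⟩ := mem_act.mp hv
  let z : Fin n → F := fun j => if hj : n - m ≤ (j : ℕ) then y ⟨j - (n - m), by omega⟩ else 0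
  have hz : RegGen.supDiag F n ^ (n - m) *ᵥ z = y := by
    funext i
    rw [Matrix.mulVec, dotProduct]
    simp only [RegGen.supDiag_pow]
    by_cases hi : (i : ℕ) < m
    · rw [Finset.sum_eq_single (⟨(i : ℕ) + (n - m), by omega⟩ : Fin n)]
      · rw [if_pos rfl, one_mul]
        simp only [z]
        rw [dif_pos (by simp)]
        congr 1
        exact Fin.ext (by simp)
      · intro b _ hb
        rw [if_neg fun e => hb (Fin.ext e), zero_mul]
      · simp
    · rw [hy i (not_lt.mp hi)]
      exact Finset.sum_eq_zero fun b _ => by rw [if_neg (by omega), zero_mul]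
  rw [← hz, Matrix.mulVec_mulVec, hk, ← Matrix.mulVec_mulVec]
  intro i hi
  rw [Matrix.mulVec, dotProduct]
  exact Finset.sum_eq_zero fun b _ => by rw [unitri_pow_zero hx _ i b (by omega), zero_mul]

end CfsgLib.NilCover
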