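import Cfsg.Agent.Lib.NilCover.Basic

/-!
# There are more flags than subspaces
-/

set_option autoImplicit false

namespace CfsgLib.NilCover

open Matrix

variable {n : ℕ} {F : Type*} [Field F] [Fintype F]

/-- The flag spanned by the columns of a matrix. -/
def flagOf (c : GL (Fin n) F) : Fin (n + 1) → Submodule F (Fin n → F) := fun m => act c (std (m : ℕ))

/-- Every flag comes from a matrix of determinant one. -/
theorem exists_sl_flag (hn : 1 ≤ n) (c : GL (Fin n) F) :
    ∃ g : Matrix.SpecialLinearGroup (Fin n) F, flagOf (Matrix.SpecialLinearGroup.toGL g) = flagOf c := by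
  classical
  let l : Fin n := ⟨n - 1, by omega⟩
  let d : Fin n → F := fun i => if i = l then ((c : Matrix (Fin n) (Fin n) F).det)⁻¹ else 1
  have hc : (c : Matrix (Fin n) (Fin n) F).det ≠ 0 := Matrix.GeneralLinearGroup.det_ne_zero c
  have hd : (Matrix.diagonal d).det = ((c : Matrix (Fin n) (Fin n) F).det)⁻¹ := by
    rw [Matrix.det_diagonal, Finset.prod_eq_single l (fun b _ hb => if_neg hb) (by simp)]
    exact if_pos rfl
  let D : GL (Fin n) F := Matrix.GeneralLinearGroup.mkOfDetNeZero (Matrix.diagonal d)
    (by rw [hd]; exact inv_ne_zero hc)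
  refine ⟨⟨((c * D : GL (Fin n) F) : Matrix (Fin n) (Fin n) F), by
    show ((c : Matrix (Fin n) (Fin n) F) * Matrix.diagonal d).det = 1
    rw [Matrix.det_mul, hd, mul_inv_cancel₀ hc]⟩, funext fun m => ?_⟩
  have e : Matrix.SpecialLinearGroup.toGL (⟨((c * D : GL (Fin n) F) : Matrix (Fin n) (Fin n) F), by
      show ((c : Matrix (Fin n) (Fin n) F) * Matrix.diagonal d).det = 1
      rw [Matrix.det_mul, hd, mul_inv_cancel₀ hc]⟩ : Matrix.SpecialLinearGroup (Fin n) F) = c * D :=
    Units.ext rfl
  show act _ (std (m : ℕ)) = act c (std (m : ℕ))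
  rw [e, act_mul]
  congr 1
  refine act_eq_of_le ?_
  intro x hx
  obtain ⟨y, hy, rfl⟩ := mem_act.mp hx
  intro i hi
  show (Matrix.diagonal d *ᵥ y) i = 0
  rw [Matrix.mulVec_diagonal, hy i hi, mul_zero]

/-- An adjacent transposition or transvection. -/
def step (j : Fin n) (j' : Fin n) (h : j ≠ j') (t : Bool) : Matrix (Fin n) (Fin n) F :=
  if t then (Equiv.swap j j').permMatrix F else Matrix.transvection j' j 1

theorem step_det (j j' : Fin n) (h : j ≠ j') (t : Bool) : (step (F := F) j j' h t).det ≠ 0 := by
  cases t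
  · simp [step, Matrix.det_transvection_of_ne _ _ h.symm]
  · simp [step, Matrix.det_permutation, Equiv.Perm.sign_swap h]

theorem step_single (j j' : Fin n) (h : j ≠ j') :
    step (F := F) j j' h true *ᵥ Pi.single j 1 = Pi.single j' 1 ∧
    step (F := F) j j' h false *ᵥ Pi.single j 1 = Pi.single j 1 + Pi.single j' 1 := by
  constructor
  · funext i
    simp [step, Equiv.Perm.permMatrix, PEquiv.toMatrix_apply, Matrix.mulVec_single, Pi.single_apply,
      Equiv.swap_apply_eq_iff]
  · funext i
    simp [step, Matrix.transvection, Matrix.mulVec_single, Matrix.one_apply, Matrix.single_apply,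
      Pi.single_apply, eq_comm]

theorem step_mem_std (k : ℕ) (j j' : Fin n) (h : j ≠ j') (hjj : (j' : ℕ) = (j : ℕ) + 1)
    (hk : (j' : ℕ) ≠ k) (t : Bool) {y : Fin n → F} (hy : y ∈ std k) :
    step (F := F) j j' h t *ᵥ y ∈ std k := by
  intro i hi
  cases t
  · show (Matrix.transvection j' j (1 : F) *ᵥ y) i = 0
    rw [Matrix.transvection, Matrix.add_mulVec, Matrix.one_mulVec, Pi.add_apply, hy i hi, zero_add]
    rw [Matrix.mulVec, dotProduct, Finset.sum_eq_single j]
    · by_cases hij : j' = i
      · subst hij
        rw [hy j (by omega), mul_zero]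
      · simp [Matrix.single_apply, hij]
    · intro b _ hb
      simp [Matrix.single_apply, hb.symm]
    · simp
  · show ((Equiv.swap j j').permMatrix F *ᵥ y) i = 0
    rw [Matrix.permMatrix_mulVec]
    refine hy _ ?_
    rw [Equiv.swap_apply_def]
    split_ifs with h1 h2
    · subst h1; omega
    · subst h2
      omega
    · exact hi

/-- Strictly fewer proper subspaces than flags. -/
theorem card_sub_lt_flags (hn : 3 ≤ n) :
    Nat.card {W : Submodule F (Fin n → F) // W ≠ ⊥ ∧ W ≠ ⊤} <
      Nat.card (Set.range fun g : Matrix.SpecialLinearGroup (Fin n) F =>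
        flagOf (Matrix.SpecialLinearGroup.toGL g)) := by
  classical
  set S := {W : Submodule F (Fin n → F) // W ≠ ⊥ ∧ W ≠ ⊤}
  set O := Set.range fun g : Matrix.SpecialLinearGroup (Fin n) F =>
    flagOf (Matrix.SpecialLinearGroup.toGL g)
  have hdim : ∀ W : S, 1 ≤ Module.finrank F (W : Submodule F (Fin n → F)) ∧
      Module.finrank F (W : Submodule F (Fin n → F)) ≤ n - 1 := by
    intro W
    refine ⟨Submodule.one_le_finrank_iff.mpr W.2.1, ?_⟩
    have := Submodule.finrank_lt W.2.2
    rw [Module.finrank_fin_fun] at this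
    omega
  let lo : Fin (n - 1) → Fin n := fun j => ⟨j, by omega⟩
  let hi : Fin (n - 1) → Fin n := fun j => ⟨(j : ℕ) + 1, by omega⟩
  have hlh : ∀ j, lo j ≠ hi j := fun j => by simp [lo, hi, Fin.ext_iff]
  let mk : Fin (n - 1) → Bool → GL (Fin n) F := fun j t =>
    Matrix.GeneralLinearGroup.mkOfDetNeZero _ (step_det (lo j) (hi j) (hlh j) t)
  let J : ℕ → Type := fun k => {j : Fin (n - 1) // (j : ℕ) + 1 ≠ k}
  let j0 : (k : ℕ) → J k := fun k => if hk : k = 1 then ⟨⟨1, by omega⟩, by simp [hk]⟩
    else ⟨⟨0, by omega⟩, by simpa using fun h : 1 = k => hk h.symm⟩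
  let T : (k : ℕ) → Option (Option (J k)) → GL (Fin n) F := fun k o =>
    match o with
    | none => 1
    | some none => mk (j0 k).1 false
    | some (some j) => mk j.1 true
  have hTk : ∀ k o, act (T k o) (std k) = std k := by
    intro k o
    match o with
    | none => exact act_one _
    | some none =>
      refine act_eq_of_le fun x hx => ?_
      obtain ⟨y, hy, rfl⟩ := mem_act.mp hx
      exact step_mem_std k _ _ (hlh _) rfl (j0 k).2 false hy
    | some (some j) =>
      refine act_eq_of_le fun x hx => ?_
      obtain ⟨y, hy, rfl⟩ := mem_act.mp hx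
      exact step_mem_std k _ _ (hlh _) rfl j.2 true hy
  -- one flag member separates two steps
  have hmem1 : ∀ j : Fin (n - 1), (Pi.single (lo j) (1 : F) : Fin n → F) ∈ std ((j : ℕ) + 1) :=
    fun j => (single_mem_std _).mpr (Nat.lt_succ_self _)
  have hnot : ∀ j : Fin (n - 1), (Pi.single (hi j) (1 : F) : Fin n → F) ∉ std ((j : ℕ) + 1) :=
    fun j h => by
      have := (single_mem_std (F := F) _).mp h
      simp [hi] at this
  have hstd : ∀ (m : ℕ) (j : Fin (n - 1)) (t : Bool), m ≠ (j : ℕ) + 1 → act (mk j t) (std m) = std m := by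
    intro m j t hm
    refine act_eq_of_le fun x hx => ?_
    obtain ⟨y, hy, rfl⟩ := mem_act.mp hx
    exact step_mem_std m _ _ (hlh _) rfl hm.symm t hy
  have hTinj : ∀ k, Function.Injective fun o => flagOf (T k o) := by
    intro k
    have hfl : ∀ (j : Fin (n - 1)) (t : Bool) (c : GL (Fin n) F), flagOf (mk j t) = flagOf c →
        act (mk j t) (std ((j : ℕ) + 1)) = act c (std ((j : ℕ) + 1)) := fun j t c h =>
      congrFun h ⟨(j : ℕ) + 1, by omega⟩
    have hswap : ∀ j, (Pi.single (hi j) (1 : F) : Fin n → F) ∈ act (mk j true) (std ((j : ℕ) + 1)) :=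
      fun j => mem_act.mpr ⟨_, hmem1 j, (step_single _ _ (hlh j)).1⟩
    have hne1 : ∀ j, act (mk j true) (std ((j : ℕ) + 1)) ≠ std ((j : ℕ) + 1) := fun j h =>
      hnot j (h ▸ hswap j)
    have hne2 : ∀ j, act (mk j false) (std ((j : ℕ) + 1)) ≠ std ((j : ℕ) + 1) := fun j h => by
      have hx : (Pi.single (lo j) (1 : F) + Pi.single (hi j) (1 : F) : Fin n → F) ∈
          act (mk j false) (std ((j : ℕ) + 1)) :=
        mem_act.mpr ⟨_, hmem1 j, (step_single _ _ (hlh j)).2⟩
      rw [h] at hx
      exact hnot j (by simpa using Submodule.sub_mem _ hx (hmem1 j))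
    have hne3 : ∀ j, act (mk j false) (std ((j : ℕ) + 1)) ≠ act (mk j true) (std ((j : ℕ) + 1)) := by
      intro j h
      have h1 := hswap j
      rw [← h] at h1
      obtain ⟨y, hy, hye⟩ := mem_act.mp h1
      have a := congrFun hye (lo j)
      have b := congrFun hye (hi j)
      change (Matrix.transvection (hi j) (lo j) (1 : F) *ᵥ y) (lo j) = _ at a
      change (Matrix.transvection (hi j) (lo j) (1 : F) *ᵥ y) (hi j) = _ at b
      simp [Matrix.transvection, Matrix.add_mulVec, Matrix.single_mulVec_eq, Pi.single_apply, hlh j,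
        hy (hi j) (le_refl _)] at a b
      exact one_ne_zero (b.symm.trans a)
    intro a b hab
    match a, b with
    | none, none => rfl
    | none, some none => exact absurd ((hfl _ _ _ hab.symm).trans (act_one _)) (hne2 _)
    | none, some (some j) => exact absurd ((hfl _ _ _ hab.symm).trans (act_one _)) (hne1 _)
    | some none, none => exact absurd ((hfl _ _ _ hab).trans (act_one _)) (hne2 _)
    | some (some j), none => exact absurd ((hfl _ _ _ hab).trans (act_one _)) (hne1 _)
    | some none, some none => rfl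
    | some none, some (some j) =>
      exfalso
      by_cases he : (j0 k).1 = j.1
      · have := hfl _ _ _ hab
        change act (mk (j0 k).1 false) _ = act (mk j.1 true) _ at this
        rw [← he] at this
        exact hne3 _ this
      · have := hfl _ _ _ hab
        change act (mk (j0 k).1 false) _ = act (mk j.1 true) _ at this
        rw [hstd _ j.1 true (fun e => he (Fin.ext (by omega)))] at this
        exact hne2 _ this
    | some (some j), some none =>
      exfalso
      by_cases he : (j0 k).1 = j.1
      · have := hfl _ _ _ hab.symm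
        change act (mk (j0 k).1 false) _ = act (mk j.1 true) _ at this
        rw [← he] at this
        exact hne3 _ this
      · have := hfl _ _ _ hab.symm
        change act (mk (j0 k).1 false) _ = act (mk j.1 true) _ at this
        rw [hstd _ j.1 true (fun e => he (Fin.ext (by omega)))] at this
        exact hne2 _ this
    | some (some i), some (some j) =>
      by_contra hne
      have he : i.1 ≠ j.1 := fun h => hne (by rw [Subtype.ext h])
      have := hfl _ _ _ hab
      change act (mk i.1 true) _ = act (mk j.1 true) _ at this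
      rw [hstd _ j.1 true (fun e => he (Fin.ext (by omega)))] at this
      exact hne1 _ this
  choose cW hcW using fun W : S => exists_act_std (W : Submodule F (Fin n → F))
  choose sl hsl using fun c : GL (Fin n) F => exists_sl_flag (by omega : 1 ≤ n) c
  let K : S → ℕ := fun W => Module.finrank F (W : Submodule F (Fin n → F))
  let Ψ : (Σ W : S, Option (Option (J (K W)))) → O × Fin (n - 1) := fun x =>
    (⟨_, ⟨sl (cW x.1 * T (K x.1) x.2), rfl⟩⟩, ⟨K x.1 - 1, by have := hdim x.1; simp only [K]; omega⟩)
  have hΨ : Function.Injective Ψ := by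
    rintro ⟨W, a⟩ ⟨W', b⟩ h
    simp only [Ψ, Prod.mk.injEq, Subtype.mk.injEq, Fin.mk.injEq, hsl] at h
    obtain ⟨hf, hk⟩ := h
    have hk' : K W = K W' := by
      have := hdim W; have := hdim W'; simp only [K] at *; omega
    have hW : W = W' := by
      refine Subtype.ext ?_
      have hKn : K W < n + 1 := by have := hdim W; simp only [K]; omega
      have := congrFun hf ⟨K W, hKn⟩
      simp only [flagOf, act_mul, hTk] at this
      rw [hcW W] at this
      rw [this, hk', hTk, hcW W']
    subst hW
    congr 1
    refine hTinj _ (funext fun m => ?_)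
    have := congrFun hf m
    simp only [flagOf, act_mul] at this ⊢
    have h2 := congrArg (act (cW W)⁻¹) this
    simpa [← act_mul, act_one] using h2
  haveI : Finite O := Set.finite_range _ |>.to_subtype
  have h1 := Nat.card_le_card_of_injective Ψ hΨ
  have hJ : ∀ W : S, Nat.card (Option (Option (J (K W)))) = n := by
    intro W
    have := hdim W
    rw [Nat.card_eq_fintype_card, Fintype.card_option, Fintype.card_option]
    show Fintype.card {j : Fin (n - 1) // (j : ℕ) + 1 ≠ K W} + 1 + 1 = n
    rw [Fintype.card_subtype_compl fun j : Fin (n - 1) => (j : ℕ) + 1 = K W, Fintype.card_fin]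
    have h1j : Fintype.card {j : Fin (n - 1) // (j : ℕ) + 1 = K W} = 1 := by
      rw [Fintype.card_eq_one_iff]
      exact ⟨⟨⟨K W - 1, by simp only [K] at *; omega⟩, by simp only [K] at *; omega⟩,
        fun j => Subtype.ext (Fin.ext (by have := j.2; show (j.1 : ℕ) = K W - 1; omega))⟩
    omega
  haveI : Finite S := inferInstance
  letI := Fintype.ofFinite S
  rw [Nat.card_sigma, Finset.sum_congr rfl fun W _ => hJ W, Finset.sum_const, Finset.card_univ,
    smul_eq_mul, Nat.card_prod, ← Nat.card_eq_fintype_card, Nat.card_fin] at h1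
  have hpos : 0 < Nat.card O := by
    haveI : Nonempty O := ⟨⟨_, 1, rfl⟩⟩
    exact Nat.card_pos
  by_contra hle
  push Not at hle
  have := Nat.mul_le_mul_right n hle
  have e : Nat.card O * n = Nat.card O * (n - 1) + Nat.card O := by
    rw [← Nat.mul_succ, Nat.succ_eq_add_one, Nat.sub_add_cancel (by omega : 1 ≤ n)]
  omega

end CfsgLib.NilCover
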