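import Cfsg.Agent.Lib.NilCover.Two

/-!
# No minimal cover by nilpotent subgroups
-/

set_option autoImplicit false

namespace CfsgLib.NilCover

open Matrix
open scoped MatrixGroups

variable {n : ℕ} {F : Type*} [Field F] [Fintype F]
  (G : Subgroup (GL (Fin n) F ⧸ Subgroup.center (GL (Fin n) F)))

/-- A member of the cover for every flag. -/
theorem flag_members (hn : 2 ≤ n) (hG : ∀ g : SL(n, F), proj (Matrix.SpecialLinearGroup.toGL g) ∈ G)
    (𝓐 : Finset (Subgroup G)) (hcov : ∀ g : G, ∃ A ∈ 𝓐, g ∈ A) (hnil : ∀ A ∈ 𝓐, Group.IsNilpotent A) :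
    ∃ f : Set.range (fun g : SL(n, F) => flagOf (Matrix.SpecialLinearGroup.toGL g)) → Subgroup G,
      Function.Injective f ∧ (∀ o, f o ∈ 𝓐) ∧
      (∀ o, ∃ W : Submodule F (Fin n → F), (W ≠ ⊥ ∧ W ≠ ⊤) ∧ f o ≤ hSub G W) ∧
      ∀ o, ∃ g : SL(n, F),
        proj (Matrix.SpecialLinearGroup.toGL (g * RegGen.regU F n * g⁻¹)) ∈ (f o).map G.subtype := by
  obtain ⟨p, hp⟩ := CharP.exists F
  haveI : Fact p.Prime := ⟨CharP.char_is_prime F p⟩
  choose g hg using fun o : Set.range (fun g : SL(n, F) => flagOf (Matrix.SpecialLinearGroup.toGL g)) => o.2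
  choose f hfA hf using fun o =>
    hcov ⟨proj (Matrix.SpecialLinearGroup.toGL (g o * RegGen.regU F n * (g o)⁻¹)), hG _⟩
  have hmem : ∀ o, proj (Matrix.SpecialLinearGroup.toGL (g o * RegGen.regU F n * (g o)⁻¹)) ∈
      (f o).map G.subtype := fun o => ⟨_, hf o, rfl⟩
  refine ⟨f, fun o o' e => ?_, hfA, fun o => ?_, fun o => ⟨g o, hmem o⟩⟩
  · haveI := hnil _ (hfA o)
    have h := (key G hn p (f o) (g o) (hmem o)).2 (g o') (e ▸ hmem o')
    have e1 : flagOf (Matrix.SpecialLinearGroup.toGL (g o)) = o.1 := hg o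
    have e2 : flagOf (Matrix.SpecialLinearGroup.toGL (g o')) = o'.1 := hg o'
    exact Subtype.ext (e1.symm.trans (h.symm.trans e2))
  · haveI := hnil _ (hfA o)
    obtain ⟨⟨W, h1, h2, h3⟩, -⟩ := key G hn p (f o) (g o) (hmem o)
    exact ⟨W, ⟨h1, h2⟩, h3⟩

theorem no_cover_large (hn : 3 ≤ n) (hG : ∀ g : SL(n, F), proj (Matrix.SpecialLinearGroup.toGL g) ∈ G)
    (𝓐 : Finset (Subgroup G)) (hcov : (∀ A ∈ 𝓐, A ≠ ⊤) ∧ (∀ g : G, ∃ A ∈ 𝓐, g ∈ A))
    (hmin : ∀ 𝓑 : Finset (Subgroup G), (∀ A ∈ 𝓑, A ≠ ⊤) ∧ (∀ g : G, ∃ A ∈ 𝓑, g ∈ A) → 𝓐.card ≤ 𝓑.card)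
    (hnil : ∀ A ∈ 𝓐, Group.IsNilpotent A) : False := by
  obtain ⟨f, hf, hfA, hfW, -⟩ := flag_members G (by omega) hG 𝓐 hcov.2 hnil
  refine cover_lemma 𝓐 hcov hmin (S := {W : Submodule F (Fin n → F) // W ≠ ⊥ ∧ W ≠ ⊤})
    (fun W => hSub G W.1) (fun W => hSub_ne_top G hG W.2.1 W.2.2) f hf hfA (fun o g hg => ?_)
    (card_sub_lt_flags hn)
  obtain ⟨W, hW, hle⟩ := hfW o
  exact ⟨⟨W, hW⟩, hle hg⟩

theorem lines_le_flags {F : Type*} [Field F] [Fintype F] :
    Nat.card {W : Submodule F (Fin 2 → F) // W ≠ ⊥ ∧ W ≠ ⊤} ≤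
      Nat.card (Set.range fun g : SL(2, F) => flagOf (Matrix.SpecialLinearGroup.toGL g)) := by
  choose c hc using fun W : {W : Submodule F (Fin 2 → F) // W ≠ ⊥ ∧ W ≠ ⊤} =>
    exists_act_std (W : Submodule F (Fin 2 → F))
  choose sl hsl using fun a : GL (Fin 2) F => exists_sl_flag (by omega : 1 ≤ 2) a
  haveI : Finite (Set.range fun g : SL(2, F) => flagOf (Matrix.SpecialLinearGroup.toGL g)) :=
    (Set.finite_range _).to_subtype
  refine Nat.card_le_card_of_injective (fun W => ⟨_, sl (c W), rfl⟩) ?_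
  intro W W' e
  have e' := congrFun (congrArg Subtype.val e) 1
  simp only [hsl] at e'
  have h1 : ∀ V : {W : Submodule F (Fin 2 → F) // W ≠ ⊥ ∧ W ≠ ⊤},
      Module.finrank F (V : Submodule F (Fin 2 → F)) = 1 := fun V => by
    have a := Submodule.one_le_finrank_iff.mpr V.2.1
    have b := Submodule.finrank_lt V.2.2
    rw [Module.finrank_fin_fun] at b
    omega
  have hv : (((1 : Fin (2 + 1))) : ℕ) = 1 := rfl
  simp only [flagOf, hv] at e'
  have a := hc W
  have b := hc W'
  rw [h1] at a b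
  exact Subtype.ext (a.symm.trans (e'.trans b))

theorem no_cover_two {F : Type*} [Field F] [Fintype F] (h4 : 4 ≤ Fintype.card F)
    (G : Subgroup (GL (Fin 2) F ⧸ Subgroup.center (GL (Fin 2) F)))
    (hG : ∀ g : SL(2, F), proj (Matrix.SpecialLinearGroup.toGL g) ∈ G)
    (𝓐 : Finset (Subgroup G)) (hcov : (∀ A ∈ 𝓐, A ≠ ⊤) ∧ (∀ g : G, ∃ A ∈ 𝓐, g ∈ A))
    (hmin : ∀ 𝓑 : Finset (Subgroup G), (∀ A ∈ 𝓑, A ≠ ⊤) ∧ (∀ g : G, ∃ A ∈ 𝓑, g ∈ A) → 𝓐.card ≤ 𝓑.card)
    (hnil : ∀ A ∈ 𝓐, Group.IsNilpotent A) : False := by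
  classical
  obtain ⟨p, hp⟩ := CharP.exists F
  haveI hpp : Fact p.Prime := ⟨CharP.char_is_prime F p⟩
  haveI hOfin : Finite (Set.range fun g : SL(2, F) => flagOf (Matrix.SpecialLinearGroup.toGL g)) :=
    (Set.finite_range _).to_subtype
  obtain ⟨f, hf, hfA, hfW, hfu⟩ := flag_members G le_rfl hG 𝓐 hcov.2 hnil
  let O := (Set.range fun g : SL(2, F) => flagOf (Matrix.SpecialLinearGroup.toGL g) :)
  let S := {W : Submodule F (Fin 2 → F) // W ≠ ⊥ ∧ W ≠ ⊤}
  -- the unit of the split torus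
  obtain ⟨θ, hθ⟩ := IsCyclic.exists_generator (α := Fˣ)
  have hθord : orderOf θ = Fintype.card F - 1 := by
    rw [orderOf_eq_card_of_forall_mem_zpowers hθ, Nat.card_units, Nat.card_eq_fintype_card]
  let D : Fˣ → SL(2, F) := fun x => ⟨!![(x : F), 0; 0, ((x⁻¹ : Fˣ) : F)], by simp [Matrix.det_fin_two]⟩
  let s : Fˣ → G := fun x => ⟨proj (Matrix.SpecialLinearGroup.toGL (D x)), hG _⟩
  have hDval : ∀ x, ((Matrix.SpecialLinearGroup.toGL (D x) : GL (Fin 2) F) : Matrix (Fin 2) (Fin 2) F) =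
      !![(x : F), 0; 0, ((x⁻¹ : Fˣ) : F)] := fun x => rfl
  have hne : ∀ x : Fˣ, x ^ 2 ≠ 1 → (x : F) ≠ ((x⁻¹ : Fˣ) : F) := fun x hx e => hx (by
    rw [sq]
    calc x * x = x * x⁻¹ := by rw [← Units.ext e]
      _ = 1 := mul_inv_cancel x)
  have hD1 : D 1 = 1 := by ext i j; fin_cases i <;> fin_cases j <;> simp [D]
  have hDpow : ∀ (x : Fˣ) (k : ℕ), D x ^ k = D (x ^ k) := fun x k => by
    induction k with
    | zero => rw [pow_zero, pow_zero, hD1]
    | succ m ih =>
      rw [pow_succ, ih]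
      apply Subtype.ext
      rw [Matrix.SpecialLinearGroup.coe_mul]
      show !![((x ^ m : Fˣ) : F), 0; 0, (((x ^ m)⁻¹ : Fˣ) : F)] * !![(x : F), 0; 0, ((x⁻¹ : Fˣ) : F)] =
        !![((x ^ (m + 1) : Fˣ) : F), 0; 0, (((x ^ (m + 1))⁻¹ : Fˣ) : F)]
      simp [pow_succ, mul_comm]
  -- no member through a regular unipotent meets the split torus
  have hsplit : ∀ o, ∀ x : Fˣ, x ^ 2 ≠ 1 → s x ∈ f o → False := by
    intro o x hx hsx
    obtain ⟨g, hg⟩ := hfu o
    haveI := hnil _ (hfA o)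
    set u := Matrix.SpecialLinearGroup.toGL (g * RegGen.regU F 2 * g⁻¹) with hu
    obtain ⟨a, ha, hau⟩ := hg
    change (a : GL (Fin 2) F ⧸ Subgroup.center (GL (Fin 2) F)) = proj u at hau
    have hreg : (RegGen.regU F 2 : SL(2, F)) ^ p = 1 := by
      have hsq : RegGen.supDiag F 2 ^ 2 = 0 :=
        Matrix.ext fun i j => by rw [RegGen.supDiag_pow, if_neg (by omega)]; rfl
      apply Subtype.ext
      rw [Matrix.SpecialLinearGroup.coe_pow, Matrix.SpecialLinearGroup.coe_one]
      show (1 + RegGen.supDiag F 2) ^ p = 1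
      haveI : CharP (Matrix (Fin 2) (Fin 2) F) p := Matrix.charP p
      rw [add_pow_char_of_commute p (Commute.one_left _), one_pow]
      obtain ⟨k, hk⟩ := Nat.exists_eq_add_of_le hpp.out.two_le
      rw [hk, pow_add, hsq, zero_mul, add_zero]
    have hup : u ^ p = 1 := by
      rw [hu, ← map_pow, conj_pow, hreg, mul_one, mul_inv_cancel, map_one]
    have hxo : (orderOf x).Coprime p := by
      refine Nat.Coprime.coprime_dvd_left (orderOf_dvd_natCard x) ?_
      rw [Nat.card_units, Nat.card_eq_fintype_card]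
      obtain ⟨e, -, hF⟩ := FiniteField.card F p
      rw [hF]
      refine ((hpp.out.coprime_iff_not_dvd).mpr fun h => ?_).symm
      have h2 := Nat.dvd_sub (dvd_pow_self p e.pos.ne') h
      rw [Nat.sub_sub_self (Nat.one_le_pow _ _ hpp.out.pos)] at h2
      exact hpp.out.not_dvd_one h2
    have hco : Commute (⟨s x, hsx⟩ : f o) ⟨a, ha⟩ := by
      refine nil_commute ?_
      have hd1 : orderOf (⟨s x, hsx⟩ : f o) ∣ orderOf x := orderOf_dvd_of_pow_eq_one
        (Subtype.ext (Subtype.ext (by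
          show (proj (Matrix.SpecialLinearGroup.toGL (D x))) ^ orderOf x = 1
          rw [← map_pow, ← map_pow]
          rw [hDpow, pow_orderOf_eq_one, hD1, map_one, map_one])))
      have hd2 : orderOf (⟨a, ha⟩ : f o) ∣ p := orderOf_dvd_of_pow_eq_one
        (Subtype.ext (Subtype.ext (by
          show (a : GL (Fin 2) F ⧸ Subgroup.center (GL (Fin 2) F)) ^ p = 1
          rw [hau, ← map_pow, hup, map_one])))
      exact (Nat.Coprime.coprime_dvd_left hd1 (Nat.Coprime.coprime_dvd_right hd2 hxo))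
    have hc2 : Commute (proj (Matrix.SpecialLinearGroup.toGL (D x))) (proj u) := by
      have := congrArg (fun z : f o => ((z : G) : GL (Fin 2) F ⧸ Subgroup.center (GL (Fin 2) F))) hco.eq
      simpa [s, hau, Commute, SemiconjBy] using this
    -- the commutator is scalar and must be trivial
    set d := Matrix.SpecialLinearGroup.toGL (D x)
    obtain ⟨c, hc0, hc⟩ := mem_center_iff_scalar.mp (proj_eq_one.mp (show proj (d * u * d⁻¹ * u⁻¹) = 1 by
      rw [map_mul, map_mul, map_mul, map_inv, map_inv, hc2.eq]; group))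
    have e : (d : Matrix (Fin 2) (Fin 2) F) * u * ((d⁻¹ : GL (Fin 2) F) : Matrix (Fin 2) (Fin 2) F) =
        c • (u : Matrix (Fin 2) (Fin 2) F) := by
      have h1 : d * u * d⁻¹ = (d * u * d⁻¹ * u⁻¹) * u := by group
      have h2 := congrArg (fun z : GL (Fin 2) F => (z : Matrix (Fin 2) (Fin 2) F)) h1
      simp only [Units.val_mul] at h2 hc
      rw [h2, hc, Matrix.smul_mul, Matrix.one_mul]
    have hdetu : (u : Matrix (Fin 2) (Fin 2) F).det = 1 := (g * RegGen.regU F 2 * g⁻¹).2
    have hc2' : c ^ 2 = 1 := by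
      have := congrArg Matrix.det e
      rwa [Matrix.det_units_conj, Matrix.det_smul, hdetu, Fintype.card_fin, mul_one, eq_comm] at this
    have hc1 : c = 1 := by
      have hupm : (u : Matrix (Fin 2) (Fin 2) F) ^ p = 1 := by rw [← Units.val_pow_eq_pow_val, hup, Units.val_one]
      have h3 := congrArg (fun z => z ^ p) e
      rw [Units.conj_pow, smul_pow, hupm, Matrix.mul_one, ← Units.val_mul, mul_inv_cancel, Units.val_one] at h3
      have h4 := congrFun (congrFun h3 0) 0
      simp only [Matrix.one_apply_eq, Matrix.smul_apply, smul_eq_mul, mul_one] at h4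
      have h5 : (c - 1) ^ p = 0 := by rw [sub_pow_char, one_pow, ← h4, sub_self]
      exact sub_eq_zero.mp (pow_eq_zero_iff hpp.out.ne_zero |>.mp h5)
    rw [hc1, one_smul] at e
    have e' : (u : Matrix (Fin 2) (Fin 2) F) * (d : Matrix (Fin 2) (Fin 2) F) =
        (d : Matrix (Fin 2) (Fin 2) F) * u := by
      conv_lhs => rw [← e]
      rw [Matrix.mul_assoc, Units.inv_mul, Matrix.mul_one]
    obtain ⟨u01, u10⟩ := diag_of_commute (hne x hx) e'
    have hdiag : (u : Matrix (Fin 2) (Fin 2) F) = 1 := by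
      have hnil : ((u : Matrix (Fin 2) (Fin 2) F) - 1) ^ p = 0 := by
        haveI : CharP (Matrix (Fin 2) (Fin 2) F) p := Matrix.charP p
        rw [sub_pow_char_of_commute p (Commute.one_right _), one_pow, ← Units.val_pow_eq_pow_val, hup,
          Units.val_one, sub_self]
      have hdd : (u : Matrix (Fin 2) (Fin 2) F) - 1 =
          Matrix.diagonal ![(u : Matrix (Fin 2) (Fin 2) F) 0 0 - 1, (u : Matrix (Fin 2) (Fin 2) F) 1 1 - 1] := by
        ext i j; fin_cases i <;> fin_cases j <;> simp [u01, u10]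
      rw [hdd, Matrix.diagonal_pow] at hnil
      have a0 := congrFun (congrFun hnil 0) 0
      have a1 := congrFun (congrFun hnil 1) 1
      simp [sub_eq_zero, hpp.out.ne_zero] at a0 a1
      ext i j; fin_cases i <;> fin_cases j <;> simp [u01, u10, a0, a1]
    have h1 : g * RegGen.regU F 2 * g⁻¹ = 1 := Subtype.ext hdiag
    rw [conj_eq_one_iff] at h1
    have h2 := congrArg (fun z : SL(2, F) => (z : Matrix (Fin 2) (Fin 2) F) 0 1) h1
    simp [RegGen.regU, RegGen.supDiag] at h2
  by_cases hA : ∃ r : ℕ, r.Prime ∧ r ≠ 2 ∧ r ∣ Fintype.card F - 1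
  · -- an odd prime in the split torus
    obtain ⟨r, hr, hr2, hrd⟩ := hA
    haveI := Fact.mk hr
    obtain ⟨ν, hν⟩ := exists_prime_orderOf_dvd_card' (G := Fˣ) r (by
      rwa [Nat.card_units, Nat.card_eq_fintype_card])
    have hν2 : ν ^ 2 ≠ 1 := fun h => by
      have := orderOf_dvd_of_pow_eq_one h
      rw [hν] at this
      exact hr2 ((Nat.prime_dvd_prime_iff_eq hr Nat.prime_two).mp this)
    obtain ⟨A, hA, hsA⟩ := hcov.2 (s ν)
    haveI := hnil A hA
    have hDr : D ν ^ r = 1 := by rw [hDpow, ← hν, pow_orderOf_eq_one, hD1]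
    have hνne : proj (Matrix.SpecialLinearGroup.toGL (D ν)) ≠ 1 := fun h => by
      obtain ⟨c, -, hc⟩ := mem_center_iff_scalar.mp (proj_eq_one.mp h)
      rw [hDval] at hc
      have e0 := congrFun (congrFun hc 0) 0
      have e1 := congrFun (congrFun hc 1) 1
      simp at e0 e1
      exact hne ν hν2 (e0.trans (by rw [← e1]; simp))
    have hsord : orderOf (⟨s ν, hsA⟩ : A) = r := by
      refine orderOf_eq_prime (Subtype.ext (Subtype.ext ?_))
        (fun h => hνne (congrArg (fun z : A => ((z : G) : GL (Fin 2) F ⧸ Subgroup.center (GL (Fin 2) F))) h))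
      show (proj (Matrix.SpecialLinearGroup.toGL (D ν))) ^ r = 1
      rw [← map_pow, ← map_pow, hDr, map_one, map_one]
    obtain ⟨z, hz, hzord⟩ := nil_central r (hsord ▸ orderOf_dvd_natCard (⟨s ν, hsA⟩ : A))
    obtain ⟨zt, hzt⟩ := QuotientGroup.mk'_surjective _ (((z : A) : G) : GL (Fin 2) F ⧸ Subgroup.center (GL (Fin 2) F))
    change proj zt = _ at hzt
    have hzr : proj zt ^ r = 1 := by
      rw [hzt]
      have := congrArg (fun w : A => ((w : G) : GL (Fin 2) F ⧸ Subgroup.center (GL (Fin 2) F))) (pow_orderOf_eq_one z)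
      rw [hzord] at this
      simpa using this
    have hlift : ∀ (a : A) (x : GL (Fin 2) F), proj x = ((a : G) : GL (Fin 2) F ⧸ Subgroup.center (GL (Fin 2) F)) →
        (x : Matrix (Fin 2) (Fin 2) F) * zt = (zt : Matrix (Fin 2) (Fin 2) F) * x := by
      intro a x hx
      refine lifts_commute hr hr2 hzr ?_
      rw [hx, hzt]
      exact congrArg (fun w : A => ((w : G) : GL (Fin 2) F ⧸ Subgroup.center (GL (Fin 2) F)))
        (Subgroup.mem_center_iff.mp hz a)
    obtain ⟨z01, z10⟩ := diag_of_commute (hne ν hν2)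
      (N := (zt : Matrix (Fin 2) (Fin 2) F)) (by rw [← hDval]; exact (hlift ⟨s ν, hsA⟩ _ rfl).symm)
    have hzd : (zt : Matrix (Fin 2) (Fin 2) F) =
        !![(zt : Matrix (Fin 2) (Fin 2) F) 0 0, 0; 0, (zt : Matrix (Fin 2) (Fin 2) F) 1 1] := by
      ext i j; fin_cases i <;> fin_cases j <;> simp [z01, z10]
    have hz01 : (zt : Matrix (Fin 2) (Fin 2) F) 0 0 ≠ (zt : Matrix (Fin 2) (Fin 2) F) 1 1 := fun e => by
      have h1 : proj zt = 1 := proj_eq_one.mpr (mem_center_iff_scalar.mpr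
        ⟨(zt : Matrix (Fin 2) (Fin 2) F) 0 0, fun h0 => GeneralLinearGroup.det_ne_zero zt (by
          rw [Matrix.det_fin_two, h0, z01]; ring), by
          ext i j; fin_cases i <;> fin_cases j <;> simp [z01, z10, ← e]⟩)
      rw [hzt] at h1
      have : z = 1 := Subtype.ext (Subtype.ext h1)
      rw [this, orderOf_one] at hzord
      exact hr.one_lt.ne hzord
    have hAfix : ∀ a ∈ A, ∃ W : S, a ∈ hSub G W.1 := by
      intro a ha
      obtain ⟨x, hx⟩ := QuotientGroup.mk'_surjective _ (a : GL (Fin 2) F ⧸ Subgroup.center (GL (Fin 2) F))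
      obtain ⟨x01, -⟩ := diag_of_commute hz01 (N := (x : Matrix (Fin 2) (Fin 2) F))
        (by rw [← hzd]; exact hlift ⟨a, ha⟩ x hx)
      obtain ⟨W, hW, hfix⟩ := exists_fixed_of_corner x01
      exact ⟨⟨W, hW⟩, (mem_hSub hx).mpr hfix⟩
    refine cover_lemma 𝓐 hcov hmin (S := S) (O := Option O) (fun W => hSub G W.1)
      (fun W => hSub_ne_top G hG W.2.1 W.2.2) (fun o => o.elim A f) ?_ ?_ ?_ ?_
    · intro a b e
      match a, b with
      | none, none => rfl
      | none, some o => exact (hsplit o ν hν2 (show s ν ∈ f o from (show A = f o from e) ▸ hsA)).elim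
      | some o, none => exact (hsplit o ν hν2 (show s ν ∈ f o from (show f o = A from e) ▸ hsA)).elim
      | some o, some o' => exact congrArg some (hf e)
    · rintro (_ | o)
      exacts [hA, hfA o]
    · rintro (_ | o) g hg
      · exact hAfix g hg
      · obtain ⟨W, hW, hle⟩ := hfW o
        exact ⟨⟨W, hW⟩, hle hg⟩
    · rw [Finite.card_option]
      exact Nat.lt_succ_of_le lines_le_flags
  · -- `q - 1` is a power of two: use an odd prime in the nonsplit torus
    push Not at hA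
    set q := Fintype.card F with hq
    obtain ⟨m, hm⟩ : ∃ m, q - 1 = 2 ^ m :=
      ⟨_, Nat.eq_prime_pow_of_unique_prime_dvd (by omega) fun {d} hd hdd => by
        by_contra h
        exact hA d hd h hdd⟩
    have hm2 : 2 ≤ m := by
      by_contra h
      interval_cases m <;> omega
    obtain ⟨r, hr, hrd⟩ := Nat.exists_prime_and_dvd (n := (q + 1) / 2) (by omega)
    have heven : 2 ∣ q + 1 := by
      obtain ⟨k, rfl⟩ := Nat.exists_eq_add_of_le hm2
      rw [pow_add] at hm
      omega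
    have hrdvd : r ∣ q + 1 := hrd.trans (Nat.div_dvd_of_dvd heven)
    have hr2 : r ≠ 2 := by
      rintro rfl
      obtain ⟨k, rfl⟩ := Nat.exists_eq_add_of_le hm2
      rw [pow_add] at hm
      omega
    have hrq : ¬ r ∣ q - 1 := fun h => hr2 (by
      rw [hm] at h
      exact (Nat.prime_dvd_prime_iff_eq hr Nat.prime_two).mp (hr.dvd_of_dvd_pow h))
    have hrp : r ≠ p := by
      rintro rfl
      obtain ⟨e, -, hF⟩ := FiniteField.card F r
      rw [← hq] at hF
      have h1 : r ∣ q := hF ▸ dvd_pow_self r e.pos.ne'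
      exact hr.not_dvd_one ((Nat.dvd_add_right h1).mp hrdvd)
    haveI := Fact.mk hr
    have hθ2 : θ ^ 2 ≠ 1 := fun h => by
      have h1 := Nat.le_of_dvd two_pos (orderOf_dvd_of_pow_eq_one h)
      rw [hθord] at h1
      omega
    let Ar := 𝓐.filter fun A : Subgroup G => r ∣ Nat.card A
    have hzex : ∀ A : Ar, ∃ z : A.1, (∀ a : A.1, a * z = z * a) ∧ orderOf z = r := fun A => by
      haveI := hnil A.1 (Finset.mem_filter.mp A.2).1
      obtain ⟨z, hz, hzo⟩ := nil_central r (Finset.mem_filter.mp A.2).2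
      exact ⟨z, Subgroup.mem_center_iff.mp hz, hzo⟩
    choose z hzc hzo using hzex
    choose zt hzt using fun A : Ar =>
      QuotientGroup.mk'_surjective _ (((z A : A.1) : G) : GL (Fin 2) F ⧸ Subgroup.center (GL (Fin 2) F))
    have hzr : ∀ A, proj (zt A) ^ r = 1 ∧ proj (zt A) ≠ 1 := fun A => by
      rw [show proj (zt A) = _ from hzt A]
      constructor
      · have := congrArg (fun w : A.1 => ((w : G) : GL (Fin 2) F ⧸ Subgroup.center (GL (Fin 2) F)))
          (pow_orderOf_eq_one (z A))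
        rw [hzo] at this
        simpa using this
      · intro h
        have h1 : z A = 1 := Subtype.ext (Subtype.ext h)
        have := hzo A
        rw [h1, orderOf_one] at this
        exact hr.one_lt.ne this
    have hlift : ∀ (A : Ar) (a : A.1) (x : GL (Fin 2) F),
        proj x = ((a : G) : GL (Fin 2) F ⧸ Subgroup.center (GL (Fin 2) F)) →
        (x : Matrix (Fin 2) (Fin 2) F) * zt A = (zt A : Matrix (Fin 2) (Fin 2) F) * x := by
      intro A a x hx
      refine lifts_commute hr hr2 (hzr A).1 ?_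
      rw [hx, show proj (zt A) = _ from hzt A]
      exact congrArg (fun w : A.1 => ((w : G) : GL (Fin 2) F ⧸ Subgroup.center (GL (Fin 2) F))) (hzc A a)
    have hnofix : ∀ (A : Ar) (W : Submodule F (Fin 2 → F)), W ≠ ⊥ → W ≠ ⊤ →
        ((z A : A.1) : G) ∉ hSub G W := by
      intro A W hb ht hmem
      obtain ⟨v, hv, hv0⟩ := Submodule.exists_mem_ne_zero_of_ne_bot hb
      have h1 : Module.finrank F W = 1 := by
        have a := Submodule.one_le_finrank_iff.mpr hb
        have b := Submodule.finrank_lt ht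
        rw [Module.finrank_fin_fun] at b
        omega
      have hspan : Submodule.span F {v} = W :=
        Submodule.eq_of_le_of_finrank_eq ((Submodule.span_singleton_le_iff_mem _ _).mpr hv)
          (by rw [h1, finrank_span_singleton hv0])
      have hfix := (mem_hSub (hzt A)).mp hmem
      obtain ⟨a, ha⟩ := Submodule.mem_span_singleton.mp (hspan ▸ (hfix ▸ mem_act.mpr ⟨v, hv, rfl⟩ :
        (zt A : Matrix (Fin 2) (Fin 2) F) *ᵥ v ∈ W))
      exact no_fixed_line p hr hrp hrq (hzr A).1 (hzr A).2 hv0 ha.symm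
    obtain ⟨As, hAs, hsAs⟩ := hcov.2 (s θ)
    haveI := hnil As hAs
    have hAsr : As ∉ Ar := by
      intro h
      have hc := hlift ⟨As, h⟩ ⟨s θ, hsAs⟩ _ rfl
      rw [hDval] at hc
      obtain ⟨h01, -⟩ := diag_of_commute (hne θ hθ2) hc.symm
      obtain ⟨W, hW, hfix⟩ := exists_fixed_of_corner (g := zt ⟨As, h⟩) h01
      exact hnofix ⟨As, h⟩ W hW.1 hW.2 ((mem_hSub (hzt _)).mpr hfix)
    have hfr : ∀ o, f o ∉ Ar := by
      intro o h
      obtain ⟨W, hW, hle⟩ := hfW o
      exact hnofix ⟨_, h⟩ W hW.1 hW.2 (hle (z ⟨_, h⟩).2)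
    let P : S ⊕ Ar → Subgroup G := fun x => match x with
      | Sum.inl W => hSub G W.1
      | Sum.inr A => Subgroup.centralizer {((z A : A.1) : G)}
    have hall : ∀ g : G, ∃ x, g ∈ P x := by
      intro g
      obtain ⟨x, hx⟩ := QuotientGroup.mk'_surjective _ (g : GL (Fin 2) F ⧸ Subgroup.center (GL (Fin 2) F))
      by_cases hirr : ∀ W : Submodule F (Fin 2 → F), W ≠ ⊥ → W ≠ ⊤ → act x W ≠ W
      · obtain ⟨t, htc, htd, htr, ht1, ht01⟩ := exists_commuting_order hrq hrdvd hirr
        let T : SL(2, F) := ⟨(t : Matrix (Fin 2) (Fin 2) F), htd⟩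
        have hT : Matrix.SpecialLinearGroup.toGL T = t := Units.ext rfl
        have htG : proj t ∈ G := hT ▸ hG T
        obtain ⟨A, hA', htA⟩ := hcov.2 ⟨proj t, htG⟩
        have hto : orderOf (⟨⟨proj t, htG⟩, htA⟩ : A) = r :=
          orderOf_eq_prime (Subtype.ext (Subtype.ext htr))
            (fun h => ht1 (congrArg (fun w : A => ((w : G) : GL (Fin 2) F ⧸ Subgroup.center (GL (Fin 2) F))) h))
        have hAr : A ∈ Ar := Finset.mem_filter.mpr
          ⟨hA', hto ▸ orderOf_dvd_natCard (⟨⟨proj t, htG⟩, htA⟩ : A)⟩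
        refine ⟨Sum.inr ⟨A, hAr⟩, ?_⟩
        have hz1 := hlift ⟨A, hAr⟩ ⟨⟨proj t, htG⟩, htA⟩ t rfl
        have haff := affine_of_commute ht01 hz1.symm
        have hcx : Commute (zt ⟨A, hAr⟩ : Matrix (Fin 2) (Fin 2) F) (x : Matrix (Fin 2) (Fin 2) F) := by
          have htx : Commute (t : Matrix (Fin 2) (Fin 2) F) (x : Matrix (Fin 2) (Fin 2) F) :=
            congrArg (fun w : GL (Fin 2) F => (w : Matrix (Fin 2) (Fin 2) F)) htc.eq
          rw [haff]
          exact ((Commute.one_left _).smul_left _).add_left (htx.smul_left _)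
        show g ∈ Subgroup.centralizer {((z ⟨A, hAr⟩ : A) : G)}
        rw [Subgroup.mem_centralizer_singleton_iff]
        refine Subtype.ext ?_
        rw [Subgroup.coe_mul, Subgroup.coe_mul, ← hzt ⟨A, hAr⟩, ← hx, ← map_mul, ← map_mul]
        exact congrArg _ (Units.ext hcx.eq.symm)
      · push Not at hirr
        obtain ⟨W, h1, h2, h3⟩ := hirr
        exact ⟨Sum.inl ⟨W, h1, h2⟩, (mem_hSub hx).mpr h3⟩
    have hP : ∀ x, P x ≠ ⊤ := by
      rintro (W | A) h
      · exact hSub_ne_top G hG W.2.1 W.2.2 h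
      · have hcz : ∀ g : SL(2, F), (Matrix.SpecialLinearGroup.toGL g : Matrix (Fin 2) (Fin 2) F) * zt A =
            (zt A : Matrix (Fin 2) (Fin 2) F) * Matrix.SpecialLinearGroup.toGL g := by
          intro g
          refine lifts_commute hr hr2 (hzr A).1 ?_
          have hm : (⟨proj (Matrix.SpecialLinearGroup.toGL g), hG g⟩ : G) ∈
              Subgroup.centralizer {((z A : A.1) : G)} := by
            change _ ∈ P (Sum.inr A)
            rw [h]; exact Subgroup.mem_top _
          have e := congrArg Subtype.val (Subgroup.mem_centralizer_singleton_iff.mp hm)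
          rw [show proj (zt A) = _ from hzt A]
          exact e
        have hc := hcz (D θ)
        rw [hDval] at hc
        obtain ⟨h01, -⟩ := diag_of_commute (hne θ hθ2) hc.symm
        obtain ⟨W, hW, hfix⟩ := exists_fixed_of_corner (g := zt A) h01
        exact hnofix A W hW.1 hW.2 ((mem_hSub (hzt A)).mpr hfix)
    let fO : Option O ⊕ Ar → Subgroup G := fun x => match x with
      | Sum.inl none => As
      | Sum.inl (some o) => f o
      | Sum.inr A => A.1
    refine cover_lemma 𝓐 hcov hmin P hP fO ?_ ?_ (fun o g _ => hall g) ?_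
    · rintro ((_ | o) | A) ((_ | o') | A') e <;> simp only [fO] at e
      · rfl
      · exact (hsplit o' θ hθ2 (e ▸ hsAs)).elim
      · exact absurd (e ▸ A'.2) hAsr
      · exact (hsplit o θ hθ2 (e.symm ▸ hsAs)).elim
      · rw [hf e]
      · exact absurd (e ▸ A'.2) (hfr o)
      · exact absurd (e.symm ▸ A.2) hAsr
      · exact absurd (e.symm ▸ A.2) (hfr o')
      · exact congrArg Sum.inr (Subtype.ext e)
    · rintro ((_ | o) | A)
      exacts [hAs, hfA o, (Finset.mem_filter.mp A.2).1]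
    · rw [Nat.card_sum, Nat.card_sum, Finite.card_option]
      have := lines_le_flags (F := F)
      show Nat.card S + Nat.card Ar < _
      change Nat.card S ≤ Nat.card O at this
      omega

end CfsgLib.NilCover
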