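import Cfsg.Agent.Lib.NilCover.Count

/-!
# Nilpotent subgroups of groups between `PSL_n` and `PGL_n`
-/

set_option autoImplicit false

namespace CfsgLib.NilCover

open Matrix
open scoped MatrixGroups

/-- Elements of coprime orders commute in a nilpotent group. -/
theorem nil_commute {A : Type*} [Group A] [Finite A] [Group.IsNilpotent A] {x y : A}
    (h : (orderOf x).Coprime (orderOf y)) : Commute x y := by
  obtain ⟨e⟩ := ((Group.isNilpotent_of_finite_tfae (G := A)).out 0 4).mp ‹Group.IsNilpotent A›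
  obtain ⟨a, rfl⟩ := e.surjective x
  obtain ⟨b, rfl⟩ := e.surjective y
  rw [MulEquiv.orderOf_eq, MulEquiv.orderOf_eq] at h
  refine Commute.map (f := e.toMonoidHom) ?_
  refine funext fun p => funext fun P => ?_
  have hp : (p : ℕ).Prime := Nat.prime_of_mem_primeFactors p.2
  haveI := Fact.mk hp
  have hda : orderOf (a p P) ∣ orderOf a :=
    orderOf_dvd_of_pow_eq_one (congrFun (congrFun (pow_orderOf_eq_one a) p) P)
  have hdb : orderOf (b p P) ∣ orderOf b :=
    orderOf_dvd_of_pow_eq_one (congrFun (congrFun (pow_orderOf_eq_one b) p) P)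
  obtain ⟨i, hi⟩ := IsPGroup.iff_orderOf.mp P.2 (a p P)
  obtain ⟨j, hj⟩ := IsPGroup.iff_orderOf.mp P.2 (b p P)
  rcases Nat.eq_zero_or_pos i with rfl | hi0
  · rw [pow_zero, orderOf_eq_one_iff] at hi
    show a p P * b p P = b p P * a p P
    rw [hi, one_mul, mul_one]
  · rcases Nat.eq_zero_or_pos j with rfl | hj0
    · rw [pow_zero, orderOf_eq_one_iff] at hj
      show a p P * b p P = b p P * a p P
      rw [hj, one_mul, mul_one]
    · exfalso
      refine hp.one_lt.ne' (Nat.eq_one_of_dvd_coprimes h ?_ ?_)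
      · exact ((dvd_pow_self (p : ℕ) hi0.ne').trans (hi ▸ dvd_rfl)).trans hda
      · exact ((dvd_pow_self (p : ℕ) hj0.ne').trans (hj ▸ dvd_rfl)).trans hdb

/-- A prime divisor of the order of a nilpotent group is the order of a central element. -/
theorem nil_central {A : Type*} [Group A] [Finite A] [Group.IsNilpotent A] (r : ℕ) [Fact r.Prime]
    (h : r ∣ Nat.card A) : ∃ z ∈ Subgroup.center A, orderOf z = r := by
  obtain ⟨R⟩ := (inferInstance : Nonempty (Sylow r A))
  have hne : (R : Subgroup A) ≠ ⊥ := fun hb => by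
    have := R.dvd_card_of_dvd_card h
    rw [hb, Subgroup.card_bot] at this
    exact (Fact.out : r.Prime).not_dvd_one this
  haveI : Nontrivial R := (Subgroup.nontrivial_iff_ne_bot _).mpr hne
  have hc := R.2.center_nontrivial
  obtain ⟨z, hz⟩ := exists_prime_orderOf_dvd_card' (G := Subgroup.center R) r (by
    obtain ⟨k, hk, hk'⟩ := (R.2.to_subgroup (Subgroup.center R)).nontrivial_iff_card.mp hc
    exact hk' ▸ dvd_pow_self r (by omega))
  refine ⟨((z : R) : A), Subgroup.mem_center_iff.mpr fun g => ?_, by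
    rw [Subgroup.orderOf_coe, Subgroup.orderOf_coe, hz]⟩
  -- split `g` into its `r`-part and the rest
  have hN : ((R : Subgroup A)).Normal := inferInstance
  obtain ⟨k, hk⟩ := Nat.exists_eq_pow_mul_and_not_dvd (orderOf_pos g).ne' r (Fact.out : r.Prime).ne_one
  obtain ⟨m, hkm, hm⟩ := hk
  have hrm : (r ^ k).Coprime m := Nat.Coprime.pow_left _ ((Fact.out : r.Prime).coprime_iff_not_dvd.mpr hkm)
  have hgcd := Nat.gcd_eq_gcd_ab (r ^ k) m
  rw [hrm] at hgcd
  set x := g ^ (((r ^ k : ℕ) : ℤ) * Nat.gcdA (r ^ k) m) with hx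
  set y := g ^ ((m : ℤ) * Nat.gcdB (r ^ k) m) with hy
  have hg : g = x * y := by rw [hx, hy, ← _root_.zpow_add, ← hgcd]; simp
  have hxm : x ^ m = 1 := by
    rw [hx, ← zpow_natCast, ← _root_.zpow_mul, show ((r ^ k : ℕ) : ℤ) * Nat.gcdA (r ^ k) m * (m : ℤ) =
      ((orderOf g : ℕ) : ℤ) * Nat.gcdA (r ^ k) m by rw [hm]; push_cast; ring, _root_.zpow_mul, zpow_natCast,
      pow_orderOf_eq_one, _root_.one_zpow]
  have hyk : y ^ (r ^ k) = 1 := by
    rw [hy, ← zpow_natCast, ← _root_.zpow_mul, show (m : ℤ) * Nat.gcdB (r ^ k) m * ((r ^ k : ℕ) : ℤ) =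
      ((orderOf g : ℕ) : ℤ) * Nat.gcdB (r ^ k) m by rw [hm]; push_cast; ring, _root_.zpow_mul, zpow_natCast,
      pow_orderOf_eq_one, _root_.one_zpow]
  have hyR : y ∈ (R : Subgroup A) := by
    have hp : IsPGroup r (Subgroup.zpowers y) := by
      obtain ⟨i, -, hi⟩ := (Nat.dvd_prime_pow (Fact.out : r.Prime)).mp (orderOf_dvd_of_pow_eq_one hyk)
      exact IsPGroup.of_card (n := i) (by rw [Nat.card_zpowers, hi])
    obtain ⟨R', hR'⟩ := hp.exists_le_sylow
    haveI : Finite (Sylow r A) := inferInstance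
    obtain ⟨c, hc⟩ := MulAction.exists_smul_eq A R R'
    have : R' = R := by rw [← hc, Sylow.smul_eq_of_normal]
    exact this ▸ hR' (Subgroup.mem_zpowers y)
  have hcx : Commute x ((z : R) : A) := by
    refine nil_commute ?_
    rw [Subgroup.orderOf_coe, Subgroup.orderOf_coe, hz]
    exact ((Nat.Coprime.coprime_dvd_left (orderOf_dvd_of_pow_eq_one hxm)
      ((Fact.out : r.Prime).coprime_iff_not_dvd.mpr hkm).symm))
  have hcy : Commute y ((z : R) : A) := by
    have := Subgroup.mem_center_iff.mp z.2 ⟨y, hyR⟩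
    exact congrArg Subtype.val this
  rw [hg]
  exact (hcx.mul_left hcy).eq

variable {n : ℕ} {F : Type*} [Field F]

/-- The projection to `PGL_n`. -/
abbrev proj : GL (Fin n) F →* GL (Fin n) F ⧸ Subgroup.center (GL (Fin n) F) :=
  QuotientGroup.mk' (Subgroup.center (GL (Fin n) F))

theorem proj_eq_one {x : GL (Fin n) F} : proj x = 1 ↔ x ∈ Subgroup.center (GL (Fin n) F) :=
  QuotientGroup.eq_one_iff x

/-- The stabiliser in `G` of a subspace. -/
def hSub (G : Subgroup (GL (Fin n) F ⧸ Subgroup.center (GL (Fin n) F)))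
    (W : Submodule F (Fin n → F)) : Subgroup G :=
  ((stab W).map proj).subgroupOf G

theorem mem_hSub {G : Subgroup (GL (Fin n) F ⧸ Subgroup.center (GL (Fin n) F))}
    {W : Submodule F (Fin n → F)} {a : G} {x : GL (Fin n) F}
    (hx : proj x = (a : GL (Fin n) F ⧸ Subgroup.center (GL (Fin n) F))) :
    a ∈ hSub G W ↔ act x W = W := by
  rw [hSub, Subgroup.mem_subgroupOf, Subgroup.mem_map]
  constructor
  · rintro ⟨y, hy, e⟩
    have hz : y⁻¹ * x ∈ stab W := center_le_stab W (proj_eq_one.mp (by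
      rw [map_mul, map_inv, e, hx, inv_mul_cancel]))
    have := (stab W).mul_mem hy hz
    rw [mul_inv_cancel_left] at this
    exact this
  · exact fun h => ⟨x, h, hx⟩

theorem toGL_transvection_coe {i j : Fin n} (h : i ≠ j) (t : F) :
    ((Matrix.SpecialLinearGroup.toGL (Matrix.SpecialLinearGroup.transvection h t) : GL (Fin n) F) :
      Matrix (Fin n) (Fin n) F) = 1 + Matrix.single i j t :=
  Matrix.SpecialLinearGroup.transvection_coe h t

/-- A proper subspace is moved by some transvection. -/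
theorem exists_moves {W : Submodule F (Fin n → F)} (hb : W ≠ ⊥) (ht : W ≠ ⊤) :
    ∃ (i j : Fin n) (h : i ≠ j), act (Matrix.SpecialLinearGroup.toGL
      (Matrix.SpecialLinearGroup.transvection h (1 : F))) W ≠ W := by
  by_contra! hall
  obtain ⟨v, hv, hv0⟩ := Submodule.exists_mem_ne_zero_of_ne_bot hb
  obtain ⟨k, hk⟩ := Function.ne_iff.mp hv0
  have hoff : ∀ i : Fin n, i ≠ k → (Pi.single i (1 : F) : Fin n → F) ∈ W := by
    intro i hik
    have hm : (1 + Matrix.single i k (1 : F)) *ᵥ v ∈ W := by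
      rw [← toGL_transvection_coe hik]
      have := hall i k hik
      rw [← this]
      exact mem_act.mpr ⟨v, hv, rfl⟩
    rw [Matrix.add_mulVec, Matrix.one_mulVec, Matrix.single_mulVec_eq, one_mul] at hm
    have h2 : (v k) • (Pi.single i (1 : F) : Fin n → F) ∈ W := by
      have := Submodule.sub_mem _ hm hv
      rwa [add_sub_cancel_left] at this
    simpa [smul_smul, inv_mul_cancel₀ hk] using W.smul_mem (v k)⁻¹ h2
  refine ht (Submodule.eq_top_iff'.mpr fun x => ?_)
  have hk' : (Pi.single k (1 : F) : Fin n → F) ∈ W := by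
    have hs : v - ∑ i ∈ Finset.univ.erase k, v i • (Pi.single i (1 : F) : Fin n → F) ∈ W :=
      Submodule.sub_mem _ hv (Submodule.sum_mem _ fun i hi =>
        W.smul_mem _ (hoff i (Finset.ne_of_mem_erase hi)))
    have e : v - ∑ i ∈ Finset.univ.erase k, v i • (Pi.single i (1 : F) : Fin n → F) =
        v k • Pi.single k 1 := by
      funext l
      simp only [Pi.sub_apply, Finset.sum_apply, Pi.smul_apply, smul_eq_mul, Pi.single_apply, mul_ite,
        mul_one, mul_zero, Finset.sum_ite_eq, Finset.mem_erase, Finset.mem_univ, and_true]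
      by_cases hl : l = k <;> simp [hl]
    rw [e] at hs
    simpa [smul_smul, inv_mul_cancel₀ hk] using W.smul_mem (v k)⁻¹ hs
  rw [pi_eq_sum_univ' x]
  refine Submodule.sum_mem _ fun i _ => W.smul_mem _ ?_
  by_cases hi : i = k
  · exact hi ▸ hk'
  · exact hoff i hi

variable [Fintype F] (G : Subgroup (GL (Fin n) F ⧸ Subgroup.center (GL (Fin n) F)))

theorem hSub_ne_top (hG : ∀ g : SL(n, F), proj (Matrix.SpecialLinearGroup.toGL g) ∈ G)
    {W : Submodule F (Fin n → F)} (hb : W ≠ ⊥) (ht : W ≠ ⊤) : hSub G W ≠ ⊤ := fun h => by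
  obtain ⟨i, j, hij, hne⟩ := exists_moves hb ht
  exact hne ((mem_hSub (a := ⟨_, hG _⟩) rfl).mp (h ▸ Subgroup.mem_top _))

theorem preimage_nilpotent (A : Subgroup G) [Group.IsNilpotent A] :
    Group.IsNilpotent ((A.map G.subtype).comap proj) := by
  haveI : Group.IsNilpotent (A.map G.subtype) :=
    Group.nilpotent_of_mulEquiv (A.equivMapOfInjective G.subtype G.subtype_injective)
  set T := (A.map G.subtype).comap proj
  let f : T →* A.map G.subtype := (proj.comp T.subtype).codRestrict _ fun x => x.2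
  refine Subgroup.isNilpotent_of_ker_le_center f ?_
  intro x hx
  have h1 : (x : GL (Fin n) F) ∈ Subgroup.center (GL (Fin n) F) := proj_eq_one.mp (congrArg Subtype.val hx)
  exact Subgroup.mem_center_iff.mpr fun y => Subtype.ext (Subgroup.mem_center_iff.mp h1 y)

/-- A nilpotent subgroup with regular unipotent elements: they share a flag, whose line it fixes. -/
theorem key (hn : 2 ≤ n) (p : ℕ) [Fact p.Prime] [CharP F p] (A : Subgroup G) [Group.IsNilpotent A]
    (g₀ : SL(n, F))
    (h0 : proj (Matrix.SpecialLinearGroup.toGL (g₀ * RegGen.regU F n * g₀⁻¹)) ∈ A.map G.subtype) :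
    (∃ W : Submodule F (Fin n → F), W ≠ ⊥ ∧ W ≠ ⊤ ∧ A ≤ hSub G W) ∧
    ∀ g : SL(n, F), proj (Matrix.SpecialLinearGroup.toGL (g * RegGen.regU F n * g⁻¹)) ∈ A.map G.subtype →
      flagOf (Matrix.SpecialLinearGroup.toGL g) = flagOf (Matrix.SpecialLinearGroup.toGL g₀) := by
  set T := (A.map G.subtype).comap proj with hT
  haveI : Group.IsNilpotent T := preimage_nilpotent G A
  obtain ⟨Q⟩ := (inferInstance : Nonempty (Sylow p T))
  set Q0 := (Q : Subgroup T).map T.subtype with hQ0
  have hQ0p : IsPGroup p Q0 := Q.2.map _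
  obtain ⟨c, hc⟩ := exists_conj_unitri p Q0 hQ0p
  have hu : ∀ g : SL(n, F),
      proj (Matrix.SpecialLinearGroup.toGL (g * RegGen.regU F n * g⁻¹)) ∈ A.map G.subtype →
        Matrix.SpecialLinearGroup.toGL (g * RegGen.regU F n * g⁻¹) ∈ Q0 := by
    intro g hg
    let x : T := ⟨Matrix.SpecialLinearGroup.toGL (g * RegGen.regU F n * g⁻¹), hg⟩
    have hreg : RegGen.regU F n ∈ (AutPSL.unitri : Subgroup SL(n, F)) := by
      intro i j hji
      show (1 + RegGen.supDiag F n) i j = _
      rw [Matrix.add_apply, Matrix.one_apply]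
      have : RegGen.supDiag F n i j = 0 := by
        show (if (j : ℕ) = (i : ℕ) + 1 then (1 : F) else 0) = 0
        rw [if_neg]; have := Fin.le_def.mp hji; omega
      rw [this, add_zero]
    obtain ⟨k, hk⟩ := AutPSL.unitri_pow p _ hreg
    have hxk : x ^ p ^ k = 1 := Subtype.ext (by
      show (Matrix.SpecialLinearGroup.toGL (g * RegGen.regU F n * g⁻¹)) ^ p ^ k = 1
      rw [← map_pow, conj_pow, hk, mul_one, mul_inv_cancel, map_one])
    have hp : IsPGroup p (Subgroup.zpowers x) := by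
      obtain ⟨i, -, hi⟩ := (Nat.dvd_prime_pow (Fact.out : p.Prime)).mp (orderOf_dvd_of_pow_eq_one hxk)
      exact IsPGroup.of_card (n := i) (by rw [Nat.card_zpowers, hi])
    obtain ⟨R', hR'⟩ := hp.exists_le_sylow
    obtain ⟨d, hd⟩ := MulAction.exists_smul_eq T Q R'
    have : R' = Q := by rw [← hd, Sylow.smul_eq_of_normal]
    exact ⟨x, this ▸ hR' (Subgroup.mem_zpowers x), rfl⟩
  have hflag : ∀ g : SL(n, F),
      proj (Matrix.SpecialLinearGroup.toGL (g * RegGen.regU F n * g⁻¹)) ∈ A.map G.subtype →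
        flagOf (Matrix.SpecialLinearGroup.toGL g) = flagOf c := by
    intro g hg
    obtain ⟨x, hx, hxe⟩ := hc _ (hu g hg)
    rw [map_mul, map_mul, map_inv] at hxe
    funext m
    exact flag_of_mem _ c x hx hxe m (Nat.lt_succ_iff.mp m.2)
  refine ⟨?_, fun g hg => (hflag g hg).trans (hflag g₀ h0).symm⟩
  let W : Submodule F (Fin n → F) :=
    { carrier := {v | ∀ q ∈ Q0, (q : Matrix (Fin n) (Fin n) F) *ᵥ v = v}
      add_mem' := fun {a b} ha hb q hq => by rw [Matrix.mulVec_add, ha q hq, hb q hq]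
      zero_mem' := fun q _ => Matrix.mulVec_zero _
      smul_mem' := fun s {a} ha q hq => by rw [Matrix.mulVec_smul, ha q hq] }
  refine ⟨W, ?_, ?_, ?_⟩
  · intro hb
    have hv : (c : Matrix (Fin n) (Fin n) F) *ᵥ Pi.single (⟨0, by omega⟩ : Fin n) 1 ∈ W := by
      intro q hq
      obtain ⟨x, hx, rfl⟩ := hc q hq
      have e0 : (x : Matrix (Fin n) (Fin n) F) *ᵥ Pi.single (⟨0, by omega⟩ : Fin n) 1 =
          Pi.single (⟨0, by omega⟩ : Fin n) 1 := by
        funext i
        rw [Matrix.mulVec_single_one, Matrix.col_apply, Pi.single_apply, hx i _ (by simp [Fin.le_def])]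
      simp only [Units.val_mul, Matrix.mulVec_mulVec]
      rw [Matrix.mul_assoc, ← Units.val_mul c⁻¹, inv_mul_cancel, Units.val_one, Matrix.mul_one,
        ← Matrix.mulVec_mulVec]
      exact congrArg _ e0
    rw [hb, Submodule.mem_bot] at hv
    have := congrArg (fun z => ((c⁻¹ : GL (Fin n) F) : Matrix (Fin n) (Fin n) F) *ᵥ z) hv
    rw [Matrix.mulVec_mulVec, ← Units.val_mul, inv_mul_cancel, Units.val_one, Matrix.one_mulVec,
      Matrix.mulVec_zero] at this
    simpa using congrFun this ⟨0, by omega⟩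
  · intro ht
    have h1 : (Matrix.SpecialLinearGroup.toGL (g₀ * RegGen.regU F n * g₀⁻¹) : GL (Fin n) F) = 1 := by
      refine Units.ext (Matrix.ext_iff_mulVec.mpr fun v => ?_)
      rw [Units.val_one, Matrix.one_mulVec]
      exact (ht ▸ Submodule.mem_top (x := v) : v ∈ W) _ (hu g₀ h0)
    rw [map_eq_one_iff _ Classical.toGL_injective', conj_eq_one_iff] at h1
    have h2 := congrArg (fun z : SL(n, F) => (z : Matrix (Fin n) (Fin n) F) ⟨0, by omega⟩ ⟨1, by omega⟩) h1
    simp [RegGen.regU, RegGen.supDiag, Matrix.one_apply] at h2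
  · intro a ha
    obtain ⟨x, hx⟩ := QuotientGroup.mk'_surjective _ (a : GL (Fin n) F ⧸ Subgroup.center (GL (Fin n) F))
    rw [mem_hSub hx]
    refine act_eq_of_le ?_
    intro v hv
    obtain ⟨y, hy, rfl⟩ := mem_act.mp hv
    intro q hq
    obtain ⟨qt, hqt, rfl⟩ := hq
    have hxT : x ∈ T := by
      show proj x ∈ A.map G.subtype
      rw [hx]
      exact ⟨a, ha, rfl⟩
    have hconj : (⟨x, hxT⟩ : T)⁻¹ * qt * ⟨x, hxT⟩ ∈ (Q : Subgroup T) := by
      simpa using (inferInstance : (Q : Subgroup T).Normal).conj_mem qt hqt ⟨x, hxT⟩⁻¹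
    have hy' := hy _ ⟨_, hconj, rfl⟩
    conv_rhs => rw [← hy']
    simp [Matrix.mulVec_mulVec, Units.val_mul, ← Matrix.mul_assoc]

/-- Two covers cannot have this shape. -/
theorem cover_lemma {H : Type*} [Group H] (𝓐 : Finset (Subgroup H))
    (hcov : (∀ A ∈ 𝓐, A ≠ ⊤) ∧ (∀ g : H, ∃ A ∈ 𝓐, g ∈ A))
    (hmin : ∀ 𝓑 : Finset (Subgroup H), (∀ A ∈ 𝓑, A ≠ ⊤) ∧ (∀ g : H, ∃ A ∈ 𝓑, g ∈ A) →
      𝓐.card ≤ 𝓑.card)
    {S O : Type*} [Finite S] [Finite O] (P : S → Subgroup H) (hP : ∀ s, P s ≠ ⊤)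
    (f : O → Subgroup H) (hf : Function.Injective f) (hfA : ∀ o, f o ∈ 𝓐)
    (hfP : ∀ o, ∀ g ∈ f o, ∃ s, g ∈ P s) (hcard : Nat.card S < Nat.card O) : False := by
  classical
  letI := Fintype.ofFinite S
  letI := Fintype.ofFinite O
  let I := 𝓐.filter fun A => ∃ g ∈ A, ∀ s, g ∉ P s
  let 𝓑 : Finset (Subgroup H) := Finset.univ.image P ∪ I
  have h1 := hmin 𝓑 ⟨fun A hA => by
      rcases Finset.mem_union.mp hA with h | h
      · obtain ⟨s, -, rfl⟩ := Finset.mem_image.mp h
        exact hP s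
      · exact hcov.1 A (Finset.mem_filter.mp h).1, fun g => by
      by_cases h : ∃ s, g ∈ P s
      · obtain ⟨s, hs⟩ := h
        exact ⟨P s, Finset.mem_union_left _ (Finset.mem_image.mpr ⟨s, Finset.mem_univ _, rfl⟩), hs⟩
      · push Not at h
        obtain ⟨A, hA, hgA⟩ := hcov.2 g
        exact ⟨A, Finset.mem_union_right _ (Finset.mem_filter.mpr ⟨hA, g, hgA, h⟩), hgA⟩⟩
  have h2 : (Finset.univ.image f).card + I.card ≤ 𝓐.card := by
    rw [← Finset.card_union_of_disjoint]
    · refine Finset.card_le_card (Finset.union_subset (fun A hA => ?_) (Finset.filter_subset _ _))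
      obtain ⟨o, -, rfl⟩ := Finset.mem_image.mp hA
      exact hfA o
    · rw [Finset.disjoint_left]
      intro A hA hI
      obtain ⟨o, -, rfl⟩ := Finset.mem_image.mp hA
      obtain ⟨g, hg, hs⟩ := (Finset.mem_filter.mp hI).2
      obtain ⟨s, hs'⟩ := hfP o g hg
      exact hs s hs'
  rw [Finset.card_image_of_injective _ hf, Finset.card_univ] at h2
  have h3 := Finset.card_union_le (Finset.univ.image P) I
  have h4 := Finset.card_image_le (s := (Finset.univ : Finset S)) (f := P)
  rw [Finset.card_univ] at h4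
  rw [Nat.card_eq_fintype_card, Nat.card_eq_fintype_card] at hcard
  simp only [𝓑] at h1
  omega

end CfsgLib.NilCover
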