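import Cfsg.Agent.Lib.NilCover.Nil

/-!
# The two-dimensional case
-/

set_option autoImplicit false

namespace CfsgLib.NilCover

open Matrix
open scoped MatrixGroups

variable {F : Type*} [Field F]

/-- What commutes with a matrix with nonzero corner is affine in it. -/
theorem affine_of_commute {M N : Matrix (Fin 2) (Fin 2) F} (h : M 0 1 ≠ 0) (hc : N * M = M * N) :
    N = (N 0 0 - N 0 1 / M 0 1 * M 0 0) • (1 : Matrix (Fin 2) (Fin 2) F) + (N 0 1 / M 0 1) • M := by
  have e00 := congrFun (congrFun hc 0) 0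
  have e01 := congrFun (congrFun hc 0) 1
  simp [Matrix.mul_apply, Fin.sum_univ_two] at e00 e01
  ext i j
  fin_cases i <;> fin_cases j <;> simp
  · field_simp
  · field_simp; linear_combination -e00
  · field_simp; linear_combination -e01

theorem diag_of_commute {a b : F} (hab : a ≠ b) {N : Matrix (Fin 2) (Fin 2) F}
    (h : N * !![a, 0; 0, b] = !![a, 0; 0, b] * N) : N 0 1 = 0 ∧ N 1 0 = 0 := by
  have e01 := congrFun (congrFun h 0) 1
  have e10 := congrFun (congrFun h 1) 0
  simp [Matrix.mul_apply, Fin.sum_univ_two] at e01 e10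
  have hne : b - a ≠ 0 := sub_ne_zero.mpr hab.symm
  exact ⟨(mul_eq_zero.mp (show N 0 1 * (b - a) = 0 by linear_combination e01)).resolve_right hne,
    (mul_eq_zero.mp (show N 1 0 * (b - a) = 0 by linear_combination -e10)).resolve_right hne⟩

theorem mem_center_iff_scalar {x : GL (Fin 2) F} :
    x ∈ Subgroup.center (GL (Fin 2) F) ↔
      ∃ c : F, c ≠ 0 ∧ (x : Matrix (Fin 2) (Fin 2) F) = c • (1 : Matrix (Fin 2) (Fin 2) F) := by
  rw [GeneralLinearGroup.center_eq_range_scalar]
  constructor
  · rintro ⟨a, rfl⟩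
    exact ⟨a, a.ne_zero, by
      rw [show ((GeneralLinearGroup.scalar (Fin 2) a : GL (Fin 2) F) : Matrix (Fin 2) (Fin 2) F) =
        Matrix.scalar (Fin 2) (a : F) from rfl, Matrix.scalar_apply, Matrix.smul_one_eq_diagonal]⟩
  · rintro ⟨c, hc, h⟩
    exact ⟨Units.mk0 c hc, Units.ext (by
      rw [h, show ((GeneralLinearGroup.scalar (Fin 2) (Units.mk0 c hc) : GL (Fin 2) F) :
        Matrix (Fin 2) (Fin 2) F) = Matrix.scalar (Fin 2) c from rfl, Matrix.scalar_apply,
        Matrix.smul_one_eq_diagonal])⟩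

/-- Lifts of an element of odd prime order and of an element commuting with it commute. -/
theorem lifts_commute {r : ℕ} (hr : r.Prime) (hr2 : r ≠ 2) {x y : GL (Fin 2) F} (hy : proj y ^ r = 1)
    (h : Commute (proj x) (proj y)) : (x : Matrix (Fin 2) (Fin 2) F) * y = (y : Matrix (Fin 2) (Fin 2) F) * x := by
  have h1 : proj (x * y * x⁻¹ * y⁻¹) = 1 := by
    rw [map_mul, map_mul, map_mul, map_inv, map_inv, h.eq]; group
  obtain ⟨c, hc0, hc⟩ := mem_center_iff_scalar.mp (proj_eq_one.mp h1)
  have e : (x : Matrix (Fin 2) (Fin 2) F) * y = c • ((y : Matrix (Fin 2) (Fin 2) F) * x) := by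
    have : x * y = (x * y * x⁻¹ * y⁻¹) * (y * x) := by group
    have := congrArg (fun z : GL (Fin 2) F => (z : Matrix (Fin 2) (Fin 2) F)) this
    simp only [Units.val_mul] at this hc ⊢
    rw [this, hc, Matrix.smul_mul, Matrix.one_mul]
  have hd : c ^ 2 = 1 := by
    have := congrArg Matrix.det e
    rw [Matrix.det_smul, Matrix.det_mul, Matrix.det_mul, Fintype.card_fin, mul_comm (x : Matrix (Fin 2) (Fin 2) F).det] at this
    exact (mul_eq_right₀ (mul_ne_zero (GeneralLinearGroup.det_ne_zero y) (GeneralLinearGroup.det_ne_zero x))).mp this.symm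
  have hpow : ∀ k : ℕ, (x : Matrix (Fin 2) (Fin 2) F) * (y : Matrix (Fin 2) (Fin 2) F) ^ k =
      c ^ k • ((y : Matrix (Fin 2) (Fin 2) F) ^ k * x) := by
    intro k
    induction k with
    | zero => simp
    | succ m ih =>
      rw [pow_succ, ← Matrix.mul_assoc, ih, Matrix.smul_mul, Matrix.mul_assoc, e, Matrix.mul_smul,
        smul_smul, ← pow_succ, ← Matrix.mul_assoc, ← pow_succ]
  obtain ⟨d, hd0, hd'⟩ := mem_center_iff_scalar.mp ((proj_eq_one (x := y ^ r)).mp (by rw [map_pow, hy]))
  rw [Units.val_pow_eq_pow_val] at hd'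
  have hcr : c ^ r = 1 := by
    have h2 := hpow r
    rw [hd', Matrix.mul_smul, Matrix.mul_one, Matrix.smul_mul, Matrix.one_mul, smul_smul] at h2
    have h3 := congrArg Matrix.det h2
    rw [Matrix.det_smul, Matrix.det_smul, Fintype.card_fin] at h3
    have h4 : (c ^ r * d) • (x : Matrix (Fin 2) (Fin 2) F) = d • (x : Matrix (Fin 2) (Fin 2) F) := h2.symm
    by_contra hne
    have h5 : ((c ^ r * d) - d) • (x : Matrix (Fin 2) (Fin 2) F) = 0 := by rw [sub_smul, h4, sub_self]
    rcases smul_eq_zero.mp h5 with h6 | h6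
    · exact hne ((mul_eq_right₀ hd0).mp (sub_eq_zero.mp h6))
    · exact GeneralLinearGroup.det_ne_zero x (by rw [h6, Matrix.det_zero])
  have hc1 : c = 1 := by
    obtain ⟨m, rfl⟩ := (hr.odd_of_ne_two hr2)
    rwa [pow_succ, pow_mul, hd, one_pow, one_mul] at hcr
  rw [e, hc1, one_smul]

theorem exists_fixed_of_corner {g : GL (Fin 2) F} (h : (g : Matrix (Fin 2) (Fin 2) F) 0 1 = 0) :
    ∃ W : Submodule F (Fin 2 → F), (W ≠ ⊥ ∧ W ≠ ⊤) ∧ act g W = W := by
  refine ⟨Submodule.span F {Pi.single 1 1}, ⟨?_, ?_⟩, act_eq_of_le ?_⟩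
  · rw [Ne, Submodule.span_singleton_eq_bot]
    intro e; simpa using congrFun e 1
  · intro e
    obtain ⟨c, hc⟩ := Submodule.mem_span_singleton.mp
      (e ▸ Submodule.mem_top : (Pi.single 0 1 : Fin 2 → F) ∈ Submodule.span F {(Pi.single 1 1 : Fin 2 → F)})
    simpa using congrFun hc 0
  · rw [act, Submodule.map_span, Set.image_singleton, Submodule.span_le, Set.singleton_subset_iff,
      SetLike.mem_coe, Submodule.mem_span_singleton]
    refine ⟨(g : Matrix (Fin 2) (Fin 2) F) 1 1, ?_⟩
    funext i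
    fin_cases i <;> simp [Matrix.mulVecLin_apply, h]

theorem exists_fixed_of_eigen {g : GL (Fin 2) F} {v : Fin 2 → F} (hv : v ≠ 0) {c : F}
    (h : (g : Matrix (Fin 2) (Fin 2) F) *ᵥ v = c • v) :
    ∃ W : Submodule F (Fin 2 → F), (W ≠ ⊥ ∧ W ≠ ⊤) ∧ act g W = W := by
  refine ⟨Submodule.span F {v}, ⟨by rwa [Ne, Submodule.span_singleton_eq_bot], ?_⟩, act_eq_of_le ?_⟩
  · intro e
    have := finrank_span_singleton (K := F) hv
    rw [e, finrank_top, Module.finrank_fin_fun] at this
    omega
  · rw [act, Submodule.map_span, Set.image_singleton, Submodule.span_le, Set.singleton_subset_iff,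
      SetLike.mem_coe, Submodule.mem_span_singleton, Matrix.mulVecLin_apply, h]
    exact ⟨c, rfl⟩

variable [Fintype F]

/-- An element of odd prime order not dividing `q(q-1)` fixes no line. -/
theorem no_fixed_line (p : ℕ) [Fact p.Prime] [CharP F p] {r : ℕ} (hr : r.Prime) (hrp : r ≠ p)
    (hrq : ¬ r ∣ Fintype.card F - 1) {t : GL (Fin 2) F} (ht : proj t ^ r = 1) (ht1 : proj t ≠ 1)
    {v : Fin 2 → F} (hv : v ≠ 0) {a : F} (h : (t : Matrix (Fin 2) (Fin 2) F) *ᵥ v = a • v) : False := by
  classical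
  have hroot : ∀ x : F, x ^ r = 1 → x = 1 := by
    intro x hx
    by_contra hne
    have hx0 : x ≠ 0 := fun e => by simp [e, hr.ne_zero] at hx
    have h1 : orderOf (Units.mk0 x hx0) = r := by
      haveI := Fact.mk hr
      exact orderOf_eq_prime (Units.ext (by simpa using hx)) (fun e => hne (congrArg Units.val e))
    have := orderOf_dvd_natCard (Units.mk0 x hx0)
    rw [h1, Nat.card_units, Nat.card_eq_fintype_card] at this
    exact hrq this
  obtain ⟨c, hc0, hc⟩ := mem_center_iff_scalar.mp ((proj_eq_one (x := t ^ r)).mp (by rw [map_pow, ht]))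
  rw [Units.val_pow_eq_pow_val] at hc
  set M := (t : Matrix (Fin 2) (Fin 2) F)
  have ha0 : a ≠ 0 := fun e => by
    rw [e, zero_smul] at h
    exact GeneralLinearGroup.det_ne_zero t (Matrix.exists_mulVec_eq_zero_iff.mp ⟨v, hv, h⟩)
  have hpow : ∀ k : ℕ, M ^ k *ᵥ v = a ^ k • v := by
    intro k
    induction k with
    | zero => simp
    | succ m ih => rw [pow_succ', ← Matrix.mulVec_mulVec, ih, Matrix.mulVec_smul, h, smul_smul, ← pow_succ]
  have hca : c = a ^ r := by
    have := hpow r
    rw [hc, Matrix.smul_mulVec, Matrix.one_mulVec] at this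
    exact smul_left_injective F hv this
  set N := a⁻¹ • M with hN
  have hNr : N ^ r = 1 := by
    rw [hN, smul_pow, hc, smul_smul, hca, inv_pow, inv_mul_cancel₀ (pow_ne_zero r ha0), one_smul]
  have hdet : N.det = 1 := hroot _ (by rw [← Matrix.det_pow, hNr, Matrix.det_one])
  have hNv : N *ᵥ v = v := by rw [hN, Matrix.smul_mulVec, h, smul_smul, inv_mul_cancel₀ ha0, one_smul]
  have e0 := congrFun hNv 0
  have e1 := congrFun hNv 1
  simp [Matrix.mulVec, dotProduct, Fin.sum_univ_two] at e0 e1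
  rw [Matrix.det_fin_two] at hdet
  have htr : N 0 0 + N 1 1 = 2 := by
    by_cases hv0 : v 0 = 0
    · have hv1 : v 1 ≠ 0 := fun e => hv (funext fun i => by fin_cases i <;> simp [hv0, e])
      have hb : N 0 1 = 0 := by
        rw [hv0, mul_zero, zero_add] at e0
        exact (mul_eq_zero.mp e0).resolve_right hv1
      have hd : N 1 1 = 1 := by
        rw [hv0, mul_zero, zero_add] at e1
        exact (mul_eq_right₀ hv1).mp e1
      rw [hb, hd] at hdet
      linear_combination hdet + hd
    · have k1 : (N 0 0 - 1) * (N 1 1 - 1) - N 0 1 * N 1 0 = 0 := by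
        refine (mul_eq_zero.mp (show ((N 0 0 - 1) * (N 1 1 - 1) - N 0 1 * N 1 0) * v 0 = 0 by
          linear_combination (N 1 1 - 1) * e0 - N 0 1 * e1)).resolve_right hv0
      linear_combination hdet - k1
  have hsq : (N - 1) * (N - 1) = 0 := by
    ext i j
    fin_cases i <;> fin_cases j <;> simp [Matrix.mul_apply, Fin.sum_univ_two, Matrix.one_apply]
    · linear_combination N 0 0 * htr - hdet
    · linear_combination N 0 1 * htr
    · linear_combination N 1 0 * htr
    · linear_combination N 1 1 * htr - hdet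
  have hNp : N ^ p = 1 := by
    have hcomm : Commute (N - 1) (1 : Matrix (Fin 2) (Fin 2) F) := Commute.one_right _
    have hpowN : ∀ k : ℕ, N ^ k = 1 + (k : F) • (N - 1) := by
      intro k
      induction k with
      | zero => simp
      | succ m ih =>
        rw [pow_succ, ih]
        have : N = 1 + (N - 1) := by abel
        nth_rewrite 2 [this]
        rw [Matrix.add_mul, Matrix.one_mul, Matrix.smul_mul, Matrix.mul_add, hsq, Matrix.mul_one, add_zero,
          Nat.cast_succ, add_smul, one_smul]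
        abel
    rw [hpowN, CharP.cast_eq_zero, zero_smul, add_zero]
  have hN1 : N = 1 := by
    let U : GL (Fin 2) F := Matrix.GeneralLinearGroup.mkOfDetNeZero N
      (by rw [Matrix.det_fin_two, hdet]; exact one_ne_zero)
    have hUr : U ^ r = 1 := Units.ext (by rw [Units.val_pow_eq_pow_val]; exact hNr)
    have hUp : U ^ p = 1 := Units.ext (by rw [Units.val_pow_eq_pow_val]; exact hNp)
    have := (Nat.coprime_primes hr (Fact.out : p.Prime)).mpr hrp
    have h1 : U = 1 := by
      have h2 : U ^ r.gcd p = 1 := pow_gcd_eq_one.mpr ⟨hUr, hUp⟩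
      rwa [this.gcd_eq_one, pow_one] at h2
    exact congrArg (fun z : GL (Fin 2) F => (z : Matrix (Fin 2) (Fin 2) F)) h1
  refine ht1 (proj_eq_one.mpr (mem_center_iff_scalar.mpr ⟨a, ha0, ?_⟩))
  show M = a • 1
  rw [← hN1, hN, smul_smul, mul_inv_cancel₀ ha0, one_smul]

/-- An irreducible element is centralised by an element of every odd prime order dividing `q+1`. -/
theorem exists_commuting_order {r : ℕ} [hr : Fact r.Prime] (hrq : ¬ r ∣ Fintype.card F - 1)
    (hr1 : r ∣ Fintype.card F + 1) {g : GL (Fin 2) F}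
    (hirr : ∀ W : Submodule F (Fin 2 → F), W ≠ ⊥ → W ≠ ⊤ → act g W ≠ W) :
    ∃ t : GL (Fin 2) F, Commute t g ∧ (t : Matrix (Fin 2) (Fin 2) F).det = 1 ∧ proj t ^ r = 1 ∧ proj t ≠ 1 ∧
      (t : Matrix (Fin 2) (Fin 2) F) 0 1 ≠ 0 := by
  classical
  set M := (g : Matrix (Fin 2) (Fin 2) F)
  have h01 : M 0 1 ≠ 0 := fun h => by
    obtain ⟨W, ⟨h1, h2⟩, h3⟩ := exists_fixed_of_corner h
    exact hirr W h1 h2 h3
  have hdet : ∀ x : F × F, x ≠ 0 → (x.1 • (1 : Matrix (Fin 2) (Fin 2) F) + x.2 • M).det ≠ 0 := by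
    rintro ⟨a, b⟩ hx hd
    obtain ⟨v, hv, hMv⟩ := Matrix.exists_mulVec_eq_zero_iff.mpr hd
    rw [Matrix.add_mulVec, Matrix.smul_mulVec, Matrix.smul_mulVec, Matrix.one_mulVec] at hMv
    by_cases hb : b = 0
    · simp only [hb, zero_smul, add_zero, smul_eq_zero] at hMv
      rcases hMv with ha | h'
      · exact hx (by simp [ha, hb])
      · exact hv h'
    · have : M *ᵥ v = (-a / b) • v := by
        have h2 : b • (M *ᵥ v) = (-a) • v := by rw [neg_smul]; exact eq_neg_of_add_eq_zero_right hMv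
        rw [div_eq_inv_mul, ← smul_smul, ← h2, smul_smul, inv_mul_cancel₀ hb, one_smul]
      obtain ⟨W, ⟨h1, h2⟩, h3⟩ := exists_fixed_of_eigen hv this
      exact hirr W h1 h2 h3
  set C : Subgroup (GL (Fin 2) F) := Subgroup.centralizer {g}
  have hcomm : ∀ x : F × F, Commute (x.1 • (1 : Matrix (Fin 2) (Fin 2) F) + x.2 • M) M := fun x =>
    ((Commute.one_left M).smul_left _).add_left ((Commute.refl M).smul_left _)
  let f : {x : F × F // x ≠ 0} → C := fun x => ⟨GeneralLinearGroup.mkOfDetNeZero _ (hdet x.1 x.2),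
    Subgroup.mem_centralizer_singleton_iff.mpr (Units.ext (hcomm x.1).eq)⟩
  have hfb : Function.Bijective f := by
    constructor
    · intro x y e
      have e' := congrArg (fun z : C => ((z : GL (Fin 2) F) : Matrix (Fin 2) (Fin 2) F)) e
      change x.1.1 • (1 : Matrix (Fin 2) (Fin 2) F) + x.1.2 • M = y.1.1 • 1 + y.1.2 • M at e'
      have e1 := congrFun (congrFun e' 0) 1
      have e0 := congrFun (congrFun e' 0) 0
      simp [h01] at e1
      simp [e1] at e0
      exact Subtype.ext (Prod.ext e0 e1)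
    · intro z
      have hz := congrArg (fun u : GL (Fin 2) F => (u : Matrix (Fin 2) (Fin 2) F))
        (Subgroup.mem_centralizer_singleton_iff.mp z.2)
      simp only [Units.val_mul] at hz
      have e := affine_of_commute h01 hz
      refine ⟨⟨(((z : GL (Fin 2) F) : Matrix (Fin 2) (Fin 2) F) 0 0 -
          ((z : GL (Fin 2) F) : Matrix (Fin 2) (Fin 2) F) 0 1 / M 0 1 * M 0 0,
          ((z : GL (Fin 2) F) : Matrix (Fin 2) (Fin 2) F) 0 1 / M 0 1), fun h0 => ?_⟩,
        Subtype.ext (Units.ext e.symm)⟩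
      simp only [Prod.mk_eq_zero] at h0
      rw [h0.1, h0.2, zero_smul, zero_smul, add_zero] at e
      exact GeneralLinearGroup.det_ne_zero (z : GL (Fin 2) F) (by rw [e, Matrix.det_zero])
  have hcard : Nat.card C = Fintype.card F * Fintype.card F - 1 := by
    rw [← Nat.card_congr (Equiv.ofBijective f hfb), Nat.card_eq_fintype_card, Fintype.card_subtype_compl,
      Fintype.card_prod, Fintype.card_subtype_eq]
  have hdvd : r ∣ Nat.card C := by
    rw [hcard, show Fintype.card F * Fintype.card F - 1 = (Fintype.card F + 1) * (Fintype.card F - 1) by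
      rw [← Nat.sq_sub_sq (Fintype.card F) 1, one_pow, sq]]
    exact hr1.mul_right _
  obtain ⟨t, ht⟩ := exists_prime_orderOf_dvd_card' (G := C) r hdvd
  have htr : (t : GL (Fin 2) F) ^ r = 1 := by
    rw [← ht, ← Subgroup.orderOf_coe, pow_orderOf_eq_one]
  have htord : orderOf (t : GL (Fin 2) F) = r := by rw [Subgroup.orderOf_coe, ht]
  have hroot : ∀ x : F, x ^ r = 1 → x = 1 := by
    intro x hx
    by_contra hne
    have hx0 : x ≠ 0 := fun e => by simp [e, hr.out.ne_zero] at hx
    have h1 : orderOf (Units.mk0 x hx0) = r :=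
      orderOf_eq_prime (Units.ext (by simpa using hx)) (fun e => hne (congrArg Units.val e))
    have := orderOf_dvd_natCard (Units.mk0 x hx0)
    rw [h1, Nat.card_units, Nat.card_eq_fintype_card] at this
    exact hrq this
  have hns : ∀ a : F, ((t : GL (Fin 2) F) : Matrix (Fin 2) (Fin 2) F) ≠ a • 1 := fun a e => by
    have h2 := congrArg (fun u : GL (Fin 2) F => (u : Matrix (Fin 2) (Fin 2) F) 0 0) htr
    simp only [Units.val_pow_eq_pow_val, e, smul_pow, one_pow, Units.val_one, Matrix.smul_apply,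
      Matrix.one_apply_eq, smul_eq_mul, mul_one] at h2
    rw [hroot a h2, one_smul] at e
    have : (t : GL (Fin 2) F) = 1 := Units.ext e
    rw [this, orderOf_one] at htord
    exact hr.out.one_lt.ne htord
  refine ⟨t, Subgroup.mem_centralizer_singleton_iff.mp t.2, hroot _ ?_, ?_, ?_, ?_⟩
  · rw [← Matrix.det_pow, ← Units.val_pow_eq_pow_val, htr, Units.val_one, Matrix.det_one]
  · rw [← map_pow, htr, map_one]
  · intro h1
    obtain ⟨a, -, ha⟩ := mem_center_iff_scalar.mp (proj_eq_one.mp h1)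
    exact hns a ha
  · intro h0
    have hz := congrArg (fun u : GL (Fin 2) F => (u : Matrix (Fin 2) (Fin 2) F))
      (Subgroup.mem_centralizer_singleton_iff.mp t.2)
    simp only [Units.val_mul] at hz
    have e := affine_of_commute h01 hz
    rw [h0, zero_div, zero_smul, add_zero, zero_mul, sub_zero] at e
    exact hns _ e

end CfsgLib.NilCover
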